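import Cfsg.Agent.BX.Frame.Baer0
import Cfsg.Agent.BMx.Fast
set_option linter.all false

/-!
# The frame at the class 5B of the Baby Monster: words and kernel checks (a copy of `BMx/Fr5Chk` with light imports)
-/

set_option autoImplicit false
set_option maxRecDepth 100000
set_option Elab.async false

namespace Cfsg.Agent.BX.Frame.Fr5

open Cfsg.Agent.BX.Frame.Baer Cfsg.Agent.BMx.Fast
open Cfsg.Agent.BabyM.Conc (Ltr)
open Cfsg.Agent.BabyM.TransInv (winv)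

/-- the word `wv` -/
def wv : List Ltr :=
  [.Z10, .Z8, .Z7, .Z1, .Z0, .X10, .X8, .X6, .X5, .X3, .X1, .y9, .y5, .y2, .y1, .p7, .hi, .p10, .hi, .p2, .hi,
  .p10, .hi, .p4, .X0, .p10, .xii, .y2, .p5, .xii]

/-- the word `we0` -/
def we0 : List Ltr :=
  [.z, .Z10, .Z9, .Z7, .Z3, .Z2, .Z0, .X10, .X9, .X7, .X3, .X2, .X1, .y7, .y4, .y3, .y2, .p9, .hi, .p8, .hi, .p10,
  .hi, .p, .hi, .p4, .hi, .p, .hi, .xii, .p10, .xii, .y5, .p6, .xii, .y6, .p10, .xii, .y7, .p10, .xii, .y6]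

/-- the word `we1` -/
def we1 : List Ltr :=
  [.Z9, .Z7, .Z6, .Z3, .Z2, .Z0, .X10, .X8, .X6, .X4, .X2, .X1, .y10, .y8, .y6, .y5, .y4, .y3, .y2, .p3, .hi, .p7,
  .hi, .p5, .hi, .p5, .hi, .p8, .hi, .p3, .xii, .p, .xii, .y10, .p7, .xii, .y8, .p4, .xii, .hi, .p7]

/-- the word `we2` -/
def we2 : List Ltr :=
  [.z, .Z10, .Z8, .Z6, .Z5, .Z1, .X8, .X7, .X6, .X1, .X0, .y7, .y5, .y3, .y2, .y1, .p5, .hi, .p3, .hi, .p3, .hi,
  .p, .hi, .p3, .tau, .y1, .xii, .y1, .hi, .xii, .y6, .p10, .xii, .y4, .y8, .taui, .X0, .p7, .xii, .p10, .xii,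
  .p5, .y6, .hi, .p8, .X0, .y1, .p9, .xii, .p, .xii, .y5, .tau, .xii, .p2, .xii, .y2, .hi, .p, .taui]

/-- the word `we3` -/
def we3 : List Ltr :=
  [.z, .Z10, .Z9, .Z7, .Z6, .Z5, .Z4, .Z2, .Z1, .Z0, .X7, .X6, .X3, .X2, .y10, .y8, .y7, .y6, .y5, .y4, .y3, .y1,
  .p10, .hi, .p10, .hi, .p10, .hi, .p6, .hi, .p7, .hi, .p4, .xii, .p10, .xii, .y5, .p5, .hi, .p5, .tau, .y1, .xii,
  .p10, .xii, .y4, .p10, .xii, .y10, .tau, .y1, .xii, .p10, .xii, .y5, .p10, .X0, .p5, .xii, .y6, .p, .xii, .taui,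
  .xii, .p2, .xii, .p2, .xii, .y3, .y9, .y10, .taui, .xii, .p, .xii, .y6]

/-- the word `wk0` -/
def wk0 : List Ltr :=
  [.Z10, .Z7, .Z5, .Z4, .Z3, .Z1, .Z0, .X10, .X5, .X3, .X2, .y7, .y4, .y1, .p10, .hi, .p8, .hi, .p, .hi, .p6, .hi,
  .p7, .hi, .p4, .y1, .p9, .xii, .y4]

/-- the word `wk1` -/
def wk1 : List Ltr :=
  [.Z10, .Z8, .Z7, .Z5, .Z4, .Z3, .Z2, .Z0, .X10, .X9, .X7, .X5, .X4, .y9, .y8, .y1, .p6, .hi, .p4, .xii, .y2, .p,
  .xii, .p9, .xii, .tau, .xii, .y6, .p, .xii, .p, .xii, .y7, .tau, .xii, .y1, .p, .xii, .y4, .y6, .p9, .xii, .y3,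
  .hi, .xii, .y6, .tau, .xii, .y2, .p8, .xii, .y5, .p2, .xii, .y10, .taui, .xii, .y2]

/-- the six matrices -/
def M5 : Fin 6 → Matrix (Fin 5) (Fin 5) (ZMod 5) := ![
  !![1, 0, 0, 0, 0; 0, 1, 0, 0, 4; 0, 0, 1, 0, 0; 0, 0, 0, 1, 0; 0, 0, 0, 0, 1],
  !![1, 0, 0, 0, 1; 0, 1, 0, 0, 0; 0, 0, 1, 0, 0; 0, 0, 0, 1, 0; 0, 0, 0, 0, 1],
  !![1, 0, 0, 0, 0; 0, 1, 0, 0, 0; 0, 0, 1, 0, 0; 0, 0, 0, 1, 4; 0, 0, 0, 0, 1],
  !![1, 0, 0, 0, 0; 0, 1, 0, 0, 0; 0, 0, 1, 0, 1; 0, 0, 0, 1, 0; 0, 0, 0, 0, 1],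
  !![4, 2, 0, 0, 0; 0, 3, 0, 0, 0; 0, 0, 2, 3, 0; 0, 0, 3, 3, 0; 0, 0, 0, 0, 2],
  !![2, 1, 1, 2, 0; 4, 3, 1, 4, 0; 0, 3, 3, 0, 0; 1, 0, 4, 4, 0; 0, 0, 0, 0, 4]]

/-- the numerical data -/
def D5 : Num 5 5 where
  F := !![0, 1, 0, 0, 0; 4, 0, 0, 0, 0; 0, 0, 0, 1, 0; 0, 0, 4, 0, 0; 0, 0, 0, 0, 0]
  c := ![0, 0, 0, 0, 0]
  h := 3
  l := 4
  R := !![0, 4, 0, 0, 0; 1, 0, 0, 0, 0; 0, 0, 0, 4, 0; 0, 0, 1, 0, 0; 0, 0, 0, 0, 0]

/-- the words of the generators of the extraspecial group -/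
def wa : Fin 5 → List Ltr := ![we0, we1, we2, we3, wv]

/-- the words of the generators -/
def wgen5 : Fin 6 → List Ltr := ![we0, we1, we2, we3, wk0, wk1]

/-- powers of an element of order five -/
def wp (w : List Ltr) (c : ZMod 5) : List Ltr :=
  if c = 0 then [] else if c = 1 then w else if c = 2 then w ++ w else if c = 3 then winv w ++ winv w else winv w

/-- the word of an element in Baer coordinates -/
def bfw (u : Fin 5 → ZMod 5) : List Ltr :=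
  wp we0 (u 0) ++ (wp we1 (u 1) ++ (wp we2 (u 2) ++ (wp we3 (u 3) ++ wp wv (u 4 + D5.q u))))

theorem c_pow0 : powF (wa 0) 5 = true := by decide +kernel

theorem c_pow1 : powF (wa 1) 5 = true := by decide +kernel

theorem c_pow2 : powF (wa 2) 5 = true := by decide +kernel

theorem c_pow3 : powF (wa 3) 5 = true := by decide +kernel

theorem c_pow4 : powF (wa 4) 5 = true := by decide +kernel

theorem c_ne : neF wv [] = true := by decide +kernel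

theorem c_com10 : eqF (wa 1 ++ wa 0) (wp wv (D5.F 1 0) ++ wa 0 ++ wa 1) = true := by decide +kernel

theorem c_com20 : eqF (wa 2 ++ wa 0) (wp wv (D5.F 2 0) ++ wa 0 ++ wa 2) = true := by decide +kernel

theorem c_com21 : eqF (wa 2 ++ wa 1) (wp wv (D5.F 2 1) ++ wa 1 ++ wa 2) = true := by decide +kernel

theorem c_com30 : eqF (wa 3 ++ wa 0) (wp wv (D5.F 3 0) ++ wa 0 ++ wa 3) = true := by decide +kernel

theorem c_com31 : eqF (wa 3 ++ wa 1) (wp wv (D5.F 3 1) ++ wa 1 ++ wa 3) = true := by decide +kernel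

theorem c_com32 : eqF (wa 3 ++ wa 2) (wp wv (D5.F 3 2) ++ wa 2 ++ wa 3) = true := by decide +kernel

theorem c_com40 : eqF (wa 4 ++ wa 0) (wp wv (D5.F 4 0) ++ wa 0 ++ wa 4) = true := by decide +kernel

theorem c_com41 : eqF (wa 4 ++ wa 1) (wp wv (D5.F 4 1) ++ wa 1 ++ wa 4) = true := by decide +kernel

theorem c_com42 : eqF (wa 4 ++ wa 2) (wp wv (D5.F 4 2) ++ wa 2 ++ wa 4) = true := by decide +kernel

theorem c_com43 : eqF (wa 4 ++ wa 3) (wp wv (D5.F 4 3) ++ wa 3 ++ wa 4) = true := by decide +kernel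

theorem c_act40 : eqF (wa 0 ++ wgen5 4) (wgen5 4 ++ bfw (M5 4 0)) = true := by decide +kernel

theorem c_act41 : eqF (wa 1 ++ wgen5 4) (wgen5 4 ++ bfw (M5 4 1)) = true := by decide +kernel

theorem c_act42 : eqF (wa 2 ++ wgen5 4) (wgen5 4 ++ bfw (M5 4 2)) = true := by decide +kernel

theorem c_act43 : eqF (wa 3 ++ wgen5 4) (wgen5 4 ++ bfw (M5 4 3)) = true := by decide +kernel

theorem c_act44 : eqF (wa 4 ++ wgen5 4) (wgen5 4 ++ bfw (M5 4 4)) = true := by decide +kernel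

theorem c_act50 : eqF (wa 0 ++ wgen5 5) (wgen5 5 ++ bfw (M5 5 0)) = true := by decide +kernel

theorem c_act51 : eqF (wa 1 ++ wgen5 5) (wgen5 5 ++ bfw (M5 5 1)) = true := by decide +kernel

theorem c_act52 : eqF (wa 2 ++ wgen5 5) (wgen5 5 ++ bfw (M5 5 2)) = true := by decide +kernel

theorem c_act53 : eqF (wa 3 ++ wgen5 5) (wgen5 5 ++ bfw (M5 5 3)) = true := by decide +kernel

theorem c_act54 : eqF (wa 4 ++ wgen5 5) (wgen5 5 ++ bfw (M5 5 4)) = true := by decide +kernel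

end Cfsg.Agent.BX.Frame.Fr5

private theorem eqs_bx9_fr5w : _root_.True := by
  try have : _root_.True := by simp only [_root_.Cfsg.Agent.BX.Frame.Fr5.wv.eq_1]
  try have : _root_.True := by simp only [_root_.Cfsg.Agent.BX.Frame.Fr5.we0.eq_1]
  try have : _root_.True := by simp only [_root_.Cfsg.Agent.BX.Frame.Fr5.we1.eq_1]
  try have : _root_.True := by simp only [_root_.Cfsg.Agent.BX.Frame.Fr5.we2.eq_1]
  try have : _root_.True := by simp only [_root_.Cfsg.Agent.BX.Frame.Fr5.we3.eq_1]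
  try have : _root_.True := by simp only [_root_.Cfsg.Agent.BX.Frame.Fr5.wk0.eq_1]
  try have : _root_.True := by simp only [_root_.Cfsg.Agent.BX.Frame.Fr5.wk1.eq_1]
  try have : _root_.True := by simp only [_root_.Cfsg.Agent.BX.Frame.Fr5.M5.eq_1]
  try have : _root_.True := by simp only [_root_.Cfsg.Agent.BX.Frame.Fr5.D5.eq_1]
  try have : _root_.True := by simp only [_root_.Cfsg.Agent.BX.Frame.Fr5.wa.eq_1]
  try have : _root_.True := by simp only [_root_.Cfsg.Agent.BX.Frame.Fr5.wgen5.eq_1]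
  try have : _root_.True := by simp only [_root_.Cfsg.Agent.BX.Frame.Fr5.wp.eq_1]
  try have : _root_.True := by simp only [_root_.Cfsg.Agent.BX.Frame.Fr5.bfw.eq_1]
  exact _root_.True.intro
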