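import Cfsg.Agent.BX.Frame.Baer
import Cfsg.Agent.BX.Frame.Fr5W
import Cfsg.Agent.BabyM.Instance
import Cfsg.Agent.Lib.FinFast
import Cfsg.Agent.Lib.Refl
import Cfsg.Agent.FastGrp
set_option linter.all false
open scoped Cfsg.Agent.FastGrp

/-!
# The frame at the class 5B of the Baby Monster (helper9; after helper88)

From `H5 : |C(g wv)| ≤ 6000000` : `bf5 : BF D5 a5 gen5 M5`, `frame5 : Frame1 (g wv) gen5 M5`, the orders of `N` and `C`.
-/

set_option autoImplicit false
set_option maxRecDepth 100000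

namespace Cfsg.Agent.BX.Frame.Fr5

open Subgroup Matrix Cfsg.Agent.BX.Frame.Baer Cfsg.Agent.BMx.Fast Cfsg.Agent.BX.Cov
open Cfsg.Agent.H819.U33 (g g_append g_winv g_nil)
open Cfsg.Agent.BabyM.Conc (Ltr)

theorem fact5 : Fact (1 < 5) := ⟨by norm_num⟩

attribute [local instance] fact5

theorem D5_ok : D5.Ok := by
  unfold Num.Ok
  decide +kernel

/-! ### Orbits -/

/-- the vector with a number -/
def vec (n : ℕ) : Fin 5 → ZMod 5 := fun i => ((n / 5 ^ (i : ℕ) : ℕ) : ZMod 5)

/-- the number of a vector -/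
def code (u : Fin 5 → ZMod 5) : ℕ := (u 0).val + 5 * (u 1).val + 25 * (u 2).val + 125 * (u 3).val + 625 * (u 4).val

theorem vec_code (u : Fin 5 → ZMod 5) : vec (code u) = u := by
  have h0 := ZMod.val_lt (u 0)
  have h1 := ZMod.val_lt (u 1)
  have h2 := ZMod.val_lt (u 2)
  have h3 := ZMod.val_lt (u 3)
  have h4 := ZMod.val_lt (u 4)
  have key : ∀ (n : ℕ) (x : ZMod 5), n % 5 = x.val → (n : ZMod 5) = x := fun n x h => by
    rw [← ZMod.natCast_mod, h, ZMod.natCast_zmod_val]
  have k0 : vec (code u) 0 = u 0 := key _ _ (by show code u / 1 % 5 = _; unfold code; omega)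
  have k1 : vec (code u) 1 = u 1 := key _ _ (by show code u / 5 % 5 = _; unfold code; omega)
  have k2 : vec (code u) 2 = u 2 := key _ _ (by show code u / 25 % 5 = _; unfold code; omega)
  have k3 : vec (code u) 3 = u 3 := key _ _ (by show code u / 125 % 5 = _; unfold code; omega)
  have k4 : vec (code u) 4 = u 4 := key _ _ (by show code u / 625 % 5 = _; unfold code; omega)
  funext i
  fin_cases i
  exacts [k0, k1, k2, k3, k4]

theorem vec_inj {a b : ℕ} (ha : a < 3125) (hb : b < 3125) (h : vec a = vec b) : a = b := by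
  have key : ∀ i : Fin 5, a / 5 ^ (i : ℕ) % 5 = b / 5 ^ (i : ℕ) % 5 := fun i =>
    (ZMod.natCast_eq_natCast_iff' _ _ 5).1 (congrFun h i)
  have h0 := key 0
  have h1 := key 1
  have h2 := key 2
  have h3 := key 3
  have h4 := key 4
  norm_num at h0 h1 h2 h3 h4
  omega

/-- evaluate first -/
noncomputable def frc (e : ℕ) (k : ℕ → ℕ) : ℕ := Nat.rec (motive := fun _ => ℕ) (k 0) (fun m _ => k m) (Nat.add e 1)

theorem frc_eq (e : ℕ) (k : ℕ → ℕ) : frc e k = k e := rfl

/-- action of a word on numbers -/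
noncomputable def wact (w : List (Fin 6)) : ℕ → ℕ :=
  List.rec (motive := fun _ => ℕ → ℕ) (fun n => n) (fun i _ ih n => frc (code (vec n ᵥ* M5 i)) ih) w

/-- one step -/
noncomputable def gstep (ws : List (List (Fin 6))) (x s : ℕ) : ℕ :=
  cond (s.testBit (x % 4096)) (frc (wact (ws.getD (x / 4096) []) (x % 4096)) fun n => s ||| 2 ^ n) s

/-- `n` steps -/
noncomputable def grow (ws : List (List (Fin 6))) (n : ℕ) : ℕ → ℕ → ℕ :=
  Nat.rec (motive := fun _ => ℕ → ℕ → ℕ) (fun _ s => s)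
    (fun _ ih T s => frc (T % 65536) fun x => frc (gstep ws x s) fun s' => frc (T / 65536) fun T' => ih T' s') n

/-- number of bits -/
noncomputable def cnt (s n : ℕ) : ℕ := Nat.rec (motive := fun _ => ℕ) 0 (fun i r => cond (s.testBit i) (r + 1) r) n

theorem cnt_eq (s n : ℕ) : cnt s n = ((Finset.range n).filter fun i => s.testBit i = true).card := by
  induction n with
  | zero => rfl
  | succ n ih =>
    have e : cnt s (n + 1) = cond (s.testBit n) (cnt s n + 1) (cnt s n) := rfl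
    rw [e, Finset.range_add_one, Finset.filter_insert, ih]
    cases s.testBit n
    · simp
    · rw [if_pos rfl, Finset.card_insert_of_notMem (by simp)]; rfl

section abs

variable {G : Type} [Group G] {a : Fin 5 → G} {gen : Fin 6 → G}

/-- the value of a word -/
def el (gen : Fin 6 → G) (w : List (Fin 6)) : G := (w.map gen).prod

theorem wact_spec (hA : ∀ i, Act D5 a (gen i) (M5 i)) (w : List (Fin 6)) :
    ∀ n, (el gen w)⁻¹ * bf D5 a (vec n) * el gen w = bf D5 a (vec (wact w n)) := by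
  induction w with
  | nil => intro n; simp [el]; rfl
  | cons i w ih =>
    intro n
    have e : wact (i :: w) n = wact w (code (vec n ᵥ* M5 i)) := rfl
    rw [e, ← ih, vec_code, ← hA i, el, el, List.map_cons, List.prod_cons]
    group

theorem grow_sound {P : ℕ → Prop} {ws : List (List (Fin 6))} (h : ∀ w ∈ ws, ∀ n, P n → P (wact w n)) (n : ℕ) :
    ∀ T s, (∀ i, s.testBit i = true → P i) → ∀ i, (grow ws n T s).testBit i = true → P i := by
  induction n with
  | zero => intro T s hs; exact hs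
  | succ n ih =>
    intro T s hs
    have e : grow ws (n + 1) T s = grow ws n (T / 65536) (gstep ws (T % 65536) s) := rfl
    rw [e]
    refine ih _ _ fun i hi => ?_
    unfold gstep at hi
    cases hb : s.testBit (T % 65536 % 4096) with
    | false => rw [hb] at hi; exact hs i hi
    | true =>
      rw [hb, cond_true, frc_eq, Nat.testBit_or, Nat.testBit_two_pow, Bool.or_eq_true] at hi
      rcases hi with hi | hi
      · exact hs i hi
      · rw [← of_decide_eq_true hi]
        by_cases hl : T % 65536 / 4096 < ws.length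
        · rw [List.getD_eq_getElem _ _ hl]; exact h _ (List.getElem_mem hl) _ (hs _ hb)
        · rw [List.getD_eq_default _ _ (by omega)]; exact hs _ hb

theorem orbit_le [Finite G] (H : Rel D5 a) (hA : ∀ i, Act D5 a (gen i) (M5 i)) (K : Subgroup G)
    {ws : List (List (Fin 6))} (hw : ∀ w ∈ ws, el gen w ∈ K) {n0 n T c : ℕ}
    (hc : frc (grow ws n T (2 ^ n0)) (fun s => cnt s 3125) = c) :
    c * Nat.card ↥(K ⊓ centralizer {bf D5 a (vec n0)}) ≤ Nat.card K := by
  classical
  rw [frc_eq, cnt_eq] at hc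
  have h1 := grow_sound (P := fun i => ∃ t ∈ K, t⁻¹ * bf D5 a (vec n0) * t = bf D5 a (vec i)) (ws := ws)
    (fun w hw' i ⟨t, ht, e⟩ => ⟨t * el gen w, K.mul_mem ht (hw w hw'), by rw [← wact_spec hA, ← e]; group⟩) n T (2 ^ n0)
    (fun i hi => by
      rw [Nat.testBit_two_pow] at hi
      exact ⟨1, K.one_mem, by rw [← of_decide_eq_true hi]; group⟩)
  have h2 := chain_step K (bf D5 a (vec n0)) (((Finset.range 3125).filter fun i =>
    (grow ws n T (2 ^ n0)).testBit i = true).image fun i => bf D5 a (vec i)) (fun o ho => by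
      obtain ⟨i, hi, rfl⟩ := Finset.mem_image.1 ho
      exact h1 i (Finset.mem_filter.1 hi).2)
  rwa [Finset.card_image_of_injOn (fun i hi j hj e => vec_inj (Finset.mem_range.1 (Finset.mem_filter.1 hi).1)
    (Finset.mem_range.1 (Finset.mem_filter.1 hj).1) (H.bf_inj e)), hc] at h2

/-- generators of the stabiliser -/
def ws2 : List (List (Fin 6)) := [[4, 5, 5, 4, 4, 5, 4, 4], [5, 5, 4, 5, 5, 4, 4, 4, 5], [0]]

private noncomputable def _root_.Cfsg.Agent.LsF.fbx9a5_0 : {f // @Cfsg.Agent.BX.Frame.Fr5.code = f} := ⟨_, by first | (delta Cfsg.Agent.BX.Frame.Fr5.code; rewrite [Cfsg.Agent.LsF.nadd_pat, Cfsg.Agent.LsF.nmul_pat, Cfsg.Agent.LsF.zval_eq]; exact rfl) | exact rfl⟩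
private noncomputable def _root_.Cfsg.Agent.LsF.fbx9a5_1 : {f // @Cfsg.Agent.BX.Frame.Fr5.vec = f} := ⟨_, by first | (delta Cfsg.Agent.BX.Frame.Fr5.vec; rewrite [Cfsg.Agent.LsF.ndiv_pat, Cfsg.Agent.LsF.npow_pat, Cfsg.Agent.LsF.zcast_pat]; exact rfl) | exact rfl⟩
private noncomputable def _root_.Cfsg.Agent.LsF.fbx9a5_2 : {f // @Cfsg.Agent.BX.Frame.Fr5.M5 = f} := ⟨_, by first | (delta Cfsg.Agent.BX.Frame.Fr5.M5; rewrite [Cfsg.Agent.LsF.mof_pat, Cfsg.Agent.LsF.vecCons_eq]; exact rfl) | exact rfl⟩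
private noncomputable def _root_.Cfsg.Agent.LsF.fbx9a5_3 : {f // @Cfsg.Agent.BX.Frame.Fr5.wact = f} := ⟨_, by first | (delta Cfsg.Agent.BX.Frame.Fr5.wact; rewrite [Cfsg.Agent.LsF.vecMulF_pat, Cfsg.Agent.LsF.fbx9a5_0.2, Cfsg.Agent.LsF.fbx9a5_1.2, Cfsg.Agent.LsF.fbx9a5_2.2, Cfsg.Agent.LsF.zadd_pat, Cfsg.Agent.LsF.zmul_pat]; exact rfl) | exact rfl⟩
private noncomputable def _root_.Cfsg.Agent.LsF.fbx9a5_4 : {f // @Cfsg.Agent.BX.Frame.Fr5.gstep = f} := ⟨_, by first | (delta Cfsg.Agent.BX.Frame.Fr5.gstep; rewrite [Cfsg.Agent.LsF.fbx9a5_3.2, Cfsg.Agent.LsF.ndiv_pat, Cfsg.Agent.LsF.nmod_pat, Cfsg.Agent.LsF.npow_pat, Cfsg.Agent.LsF.nor_pat, Cfsg.Agent.LsF.cond_eq, Cfsg.Agent.LsF.testBit_eq, Cfsg.Agent.LsF.getD_eq]; exact rfl) | exact rfl⟩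
private noncomputable def _root_.Cfsg.Agent.LsF.fbx9a5_5 : {f // @Cfsg.Agent.BX.Frame.Fr5.grow = f} := ⟨_, by first | (delta Cfsg.Agent.BX.Frame.Fr5.grow; rewrite [Cfsg.Agent.LsF.fbx9a5_4.2, Cfsg.Agent.LsF.ndiv_pat, Cfsg.Agent.LsF.nmod_pat]; exact rfl) | exact rfl⟩
private noncomputable def _root_.Cfsg.Agent.LsF.fbx9a5_6 : {f // @Cfsg.Agent.BX.Frame.Fr5.cnt = f} := ⟨_, by first | (delta Cfsg.Agent.BX.Frame.Fr5.cnt; rewrite [Cfsg.Agent.LsF.nadd_pat, Cfsg.Agent.LsF.cond_eq, Cfsg.Agent.LsF.testBit_eq]; exact rfl) | exact rfl⟩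
theorem orb1 : frc (grow [[4], [5], [1]] 1199 0x1292150319e5177402da0b52067008e1226904d20a2d1bfa051c09fe078d20f707bc054b0add086c038a22431320159121fa0505198914a72021102119e709e7096a1294029417760776218e018e13b6179b0b9f08e504030674212a15710b4b08da03f822611a5317e207e22108136b1865139607fe14a912790a6f13071b090b090898156f1627062721bf1a5117e012fe08ae03cc063d203a003a14ea175b006915dc138321c415f4211901191ae92540187810af231c031c209513660366157803ca17e9223612361483027b195f15d705d7165505410a231ba50ba507b21934093402d016c304120452219920b30a8c08481ab90ab91b3720161023002318c613e4081b060e05aa08d6033903f40665225b06721a6b0b54174f0a17147d047d04ec03921bd0206c1be506030ae5225409ce1bab075d193a145816c90aaf15ec137b212d1318158920480401083e1a5c08e319191c3114de2241035c17eb053507a6222305cd1309157a171a071a1bfc0bfc098b225021920192180b1437043716a806a80b8a20102187018713290329059a1a7c0a7c208f108f222c06fe0be0087f0b051b780b78155a1b6d0b6d08131bf105c81bd60af0269612e908b31ac51280154605461a9c15591a2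80a28030b12d502d511450145057c0a5e208d108d1b2314f118b219d316f71641202c1bd90bd9215b015b196820e0196520081008039d089410fa03b2211211121425042521251125205e20ab00ab0794185403d1064221f21759135207c619ab09ab1347191e137215e310961a9a207a1b8f15c302e41834221805550a371767076714ef02b2187e14290429169a069a14ae1b7c0b7c171f071f190b090b0c01005f1990099021e111e101e121a1141a041a13a108a30a050b14052314e8139c039c03c1204510f500f5160d060d127720c40aef217311732240068b1612195518fc08fc214d06b118830b931af400c8092221830183160504971b550b5515f305f3070803f614d619d116731285028518e408e41760220c120c140204022121012114f604f613c909d8163a20ec000a1b1c21e711e70747137d18761ad50ad51394210a110a18640864200420a710a709791c290c2915ee05ee0bea1667066701900b49226d126d1ad00ad019b809b8205300532200185f085f00eb209810981a840aaa1331033115a205a2200c223812380238149e170f21fb08390baf07d602f421c611c601c60357093e045c20b810b800b802c1053216e406e4148d048d14fb04fb16d514cd18b5182b19cf053714730473196f096f1a9e0a9e16a706a714eb061104c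913c008221a2517ca0ac4127415ba1349188812e808531a3b106400640371209a009a13aa17b407b4161b12d202d2188c215f115f15430543100f2215121514ed0a19121229d71bc60bc6012c2141014121b411b401b410780b0e0af3173a073a15bc05bc127a1b890b89282d182d082d2167216001601918091821e9217e19cd09cd21061b13151f0b3b1c1c0c1c1675288208822101110120d610d61b5718e621cb18a21a010a011631034010e105b1216b1790079012ae02ae007320f415510278189d089d0b691a7528e718040804132203221593059311b801b8223d123d023d176c076c1a48162c062c13bb03bb18f808f82150015000411416041620061006212b112b012b128a028a17d707d70c1d19dd09dd11a901a902f5156605662130113021cf01cf188108811b870b870720139f039f191609161b0114af04af17f21a330a331c020c02200d100d219111910191131017c207c21a6320b212e002e01014001421581158189008901282161006102123112321111111011116a513ae03ae14340434022621850185061f226512650265210c110c010c1464176413d303d3173e1bb720c010c000c01c20222d122d1644064414f3208300831b260b2600e621eb01eb09060424142217a307a317770777197318d008d00a9214e504e503a6275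e175e075e1a140a1412fa02fa187218ca08ca1c060c060693161706172756175620d810d82af91af90af920771077210001001b750b751904090421391139206110610061227c127c027c00552013220212020202121c021c14a513e803e81985098517dc07dc1ae3256b056b20da10da00da21c511c501c516012009100914b31935132d065904a3212f012f1258025807142193119317240724145319950995114f20cf00cf16c4203d103d003d151904911a5d1716071612881b9706cf157b244427ec200716b521940bb1094020b110b100b115061400040019871bf80bf8114a014a21a511a501a519e809e816710671129502951019001921bc1b530b53208410840084225914f9147c165f178a19db16ed06ed19fb17020702223e123e023e1be40be4209f109f206f106f006f0bcf076a212e112e012e195e095e21c311c301c3213d113d013d1b410b4115b0082103ee21f311f3225c125c133f033f2011101121621162016209f107801782078218030b771b3316b91a1a0a1a172a072a1957095719f31a74169506951b610b61159e059e13d2135a12a002a014750475200310032135113501351511051121b111b101b12321132120a3200b100b000b1050005019c61a800a800643167f067f28f008f0208910890089211f111f1b250b25280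f180f080f117701772232023218b408b422421242024221e211e217a907a9130518c208c2175507550b9b1350057613e003e017e707e72099109921d311d30651220621ed01ed192a092a14e422341234023414480448202410240024218f118f018f19ad09ad199b153814cb04cb12c702c71037222012200220073c20171017220b120b020b14b904b90c0c217d117d017d20ce10ce00ce05d20ab40aad150f050f05c102fc13fa176b15cb05cb129e029e128318270827283c183c083c220412040204202f102f002f20b010b011b301b314bd04f4134503451765219d119d019d25b605b620bc10bc00bc216111610161166b066b1aa30aa3156d056d283218320832209410940094216f116f016f2a4f1a4f0a4f2002100221d711d701d70b4d14fa18dc08dc205610560056225a125a025a19dc2248124802482754186d138b1361036127ea17ea07ea19d909d9184308432c101c100c1020e910e900e9102d002d299f199f099f2012101220d410d400d41768076823081308030820df10df00df208b108b008b2286128602862189118901892018101824e314e32ade1ade24f014f004f015fc05fc10f000f0224c124c024c29d209d2209710970097201510150015227212720272211a111a011a200e100e000e200110010001 (2 ^ 1)) (fun s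 => cnt s 3125) = 1200 := by
  (refine of_decide_eq_true ?_; (try (rewrite [Cfsg.Agent.LsF.fbx9a5_5.2, Cfsg.Agent.LsF.fbx9a5_6.2, Cfsg.Agent.LsF.npow_pat, Cfsg.Agent.LsF.instDecEq_eq, Cfsg.Agent.LsF.decide_eq])); decide +kernel)

theorem orb2 : frc (grow ws2 159 0x27e623c825fa29eb229c2364270d257525af2b7b2b1b2a1d28e0286b2298265e29ef2bdf2ab72ab3297e2304295d282028312428263922ce22ca266f2adc277a287c28cf250d2944248c25d5249023602bef209322e726ec2a9126db25c0290a21572a2127ac23fe21182027242c260b2b40202b25e126d3296e20f326c22be32842222b122b2a362a3a247b20cd294c234f21b711b7253f2059218d118d018d2b172b7f239a217c017c2a0428522462221b121b28632933270120ef00ef22e32558220a120a2bbd20de00de205d105d005d298f23c4269d2129112922b522b12ac321f101f125f22ba4221f121f27c52076007621f911f901f92564271e28a621bb01bb2a08279320ff10ff238121e001e020721072007227d524ad215311532526204000402110111001102a46223c023c204410440044208210820082 (2 ^ 130)) (fun s => cnt s 3125) = 160 := by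
  (refine of_decide_eq_true ?_; (try (rewrite [Cfsg.Agent.LsF.fbx9a5_5.2, Cfsg.Agent.LsF.fbx9a5_6.2, Cfsg.Agent.LsF.npow_pat, Cfsg.Agent.LsF.instDecEq_eq, Cfsg.Agent.LsF.decide_eq])); decide +kernel)

theorem ws2_fix : ∀ w ∈ ws2, wact w 1 = 1 := by decide +kernel

theorem bf_mem {K : Subgroup G} (h : ∀ i, a i ∈ K) (u : Fin 5 → ZMod 5) : bf D5 a u ∈ K := by
  refine K.mul_mem (K.list_prod_mem fun x hx => ?_) (K.pow_mem (h _) _)
  obtain ⟨i, rfl⟩ := (List.mem_ofFn' _ _).1 hx
  exact K.pow_mem (h _) _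

theorem mem_cent (H : Rel D5 a) {u w : Fin 5 → ZMod 5} (h : u ⬝ᵥ D5.Bm *ᵥ w = 0) :
    bf D5 a w ∈ centralizer {bf D5 a u} := by
  have h1 := H.bf_conj u w
  rw [h, Pi.single_zero, add_zero, mul_assoc, inv_mul_eq_iff_eq_mul] at h1
  exact mem_centralizer_singleton_iff.2 h1.symm

private noncomputable def _root_.Cfsg.Agent.LsF.fbx9a5_7 : {f // @Cfsg.Agent.BX.Frame.Baer.low = f} := ⟨_, by first | (delta Cfsg.Agent.BX.Frame.Baer.low; rewrite [Cfsg.Agent.LsF.dFinLt_eq, Cfsg.Agent.LsF.ite_eq]; exact rfl) | exact rfl⟩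
private noncomputable def _root_.Cfsg.Agent.LsF.fbx9a5_8 : {f // @Cfsg.Agent.BX.Frame.Baer.Num.Bm = f} := ⟨_, by first | (delta Cfsg.Agent.BX.Frame.Baer.Num.Bm; rewrite [Cfsg.Agent.LsF.fbx9a5_7.2, Cfsg.Agent.LsF.transpose_eq]; exact rfl) | exact rfl⟩
private noncomputable def _root_.Cfsg.Agent.LsF.fbx9a5_9 : {f // @Cfsg.Agent.BX.Frame.Fr5.D5 = f} := ⟨_, by first | (delta Cfsg.Agent.BX.Frame.Fr5.D5; rewrite [Cfsg.Agent.LsF.mof_pat, Cfsg.Agent.LsF.vecCons_eq]; exact rfl) | exact rfl⟩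
theorem card_ge [Finite G] (H : Rel D5 a) (hA : ∀ i, Act D5 a (gen i) (M5 i)) {K : Subgroup G} (hg : ∀ i, gen i ∈ K)
    (ha : ∀ i, a i ∈ K) : 24000000 ≤ Nat.card K ∧ (Nat.card K ≤ 24000000 → ∀ s ∈ K,
      (∀ u, bf D5 a u * s = s * bf D5 a u) → s ∈ zpowers (a 4)) := by
  have he : ∀ w, el gen w ∈ K := fun w => K.list_prod_mem fun x hx => by
    obtain ⟨i, -, rfl⟩ := List.mem_map.1 hx
    exact hg i
  have h1 := orbit_le H hA K (fun w _ => he w) orb1
  have h2 := orbit_le H hA (K ⊓ centralizer {bf D5 a (vec 1)}) (fun w hw => ⟨he w, by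
    have e := wact_spec hA w 1
    rw [ws2_fix w hw, mul_assoc, inv_mul_eq_iff_eq_mul] at e
    exact mem_centralizer_singleton_iff.2 e.symm⟩) orb2
  have c1 : ∀ x y z : ZMod 5, vec 1 ⬝ᵥ D5.Bm *ᵥ ![x, 0, 4 * x, y, z] = 0 ∧
      vec 130 ⬝ᵥ D5.Bm *ᵥ ![x, 0, 4 * x, y, z] = 0 := by (refine of_decide_eq_true ?_; (try (rewrite [Cfsg.Agent.LsF.mulVecF_pat, Cfsg.Agent.LsF.dotF_pat, Cfsg.Agent.LsF.fbx9a5_1.2, Cfsg.Agent.LsF.fbx9a5_8.2, Cfsg.Agent.LsF.fbx9a5_9.2, Cfsg.Agent.LsF.zadd_pat, Cfsg.Agent.LsF.zmul_pat, Cfsg.Agent.LsF.vecCons_eq, Cfsg.Agent.LsF.zdecEq_eq, Cfsg.Agent.LsF.zFintype_eq, Cfsg.Agent.LsF.dForall_eq, Cfsg.Agent.LsF.zACM_pat, Cfsg.Agent.LsF.dAnd_eq, Cfsg.Agent.LsF.decide_eq])); decide +kernel)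
  let f : ZMod 5 × ZMod 5 × ZMod 5 → ↥(K ⊓ centralizer {bf D5 a (vec 1)} ⊓ centralizer {bf D5 a (vec 130)}) :=
    fun x => ⟨bf D5 a ![x.1, 0, 4 * x.1, x.2.1, x.2.2], ⟨bf_mem ha _, mem_cent H (c1 _ _ _).1⟩, mem_cent H (c1 _ _ _).2⟩
  have hf : Function.Injective f := by
    intro x y e
    have e1 := H.bf_inj (congrArg Subtype.val e)
    exact Prod.ext (congrFun e1 0) (Prod.ext (congrFun e1 3) (congrFun e1 4))
  have h3 := Nat.card_le_card_of_injective f hf
  have h4 : Nat.card (ZMod 5 × ZMod 5 × ZMod 5) = 125 := by rw [Nat.card_prod, Nat.card_prod, Nat.card_zmod]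
  refine ⟨by omega, fun hc s hs hu => ?_⟩
  have h5 : Function.Bijective f := hf.bijective_of_nat_card_le (by omega)
  obtain ⟨⟨x, y, z⟩, e⟩ := h5.2 ⟨s, ⟨hs, mem_centralizer_singleton_iff.2 (hu _).symm⟩,
    mem_centralizer_singleton_iff.2 (hu _).symm⟩
  have e1 : bf D5 a ![x, 0, 4 * x, y, z] = s := congrArg Subtype.val e
  have h6 : ∀ u, u ⬝ᵥ D5.Bm *ᵥ ![x, 0, 4 * x, y, z] = 0 := by
    intro u
    have h7 := H.bf_conj u ![x, 0, 4 * x, y, z]
    rw [e1, mul_assoc, hu, inv_mul_cancel_left, H.bf_add_l, left_eq_mul] at h7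
    exact pw_eq_one Nat.prime_five (H.pow _) H.ne h7
  have c2 : ∀ x y z : ZMod 5, vec 5 ⬝ᵥ D5.Bm *ᵥ ![x, 0, 4 * x, y, z] = 0 →
      vec 25 ⬝ᵥ D5.Bm *ᵥ ![x, 0, 4 * x, y, z] = 0 → ![x, 0, 4 * x, y, z] = Pi.single D5.l z := by (refine of_decide_eq_true ?_; (try (delta Function.update Pi.single; rewrite [Cfsg.Agent.LsF.mulVecF_pat, Cfsg.Agent.LsF.dotF_pat, Cfsg.Agent.LsF.dPiF_pat, Cfsg.Agent.LsF.fbx9a5_1.2, Cfsg.Agent.LsF.fbx9a5_8.2, Cfsg.Agent.LsF.fbx9a5_9.2, Cfsg.Agent.LsF.zadd_pat, Cfsg.Agent.LsF.zmul_pat, Cfsg.Agent.LsF.vecCons_eq, Cfsg.Agent.LsF.zdecEq_eq, Cfsg.Agent.LsF.zFintype_eq, Cfsg.Agent.LsF.dForall_eq, Cfsg.Agent.LsF.zACM_pat, Cfsg.Agent.LsF.dFinEq_eq, Cfsg.Agent.LsF.dAllP_eq, Cfsg.Agent.LsF.dite_eq, Cfsg.Agent.LsF.decide_eq])); decide +kernel)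
  rw [← e1, c2 x y z (h6 _) (h6 _), H.bf_l]
  exact pow_mem (mem_zpowers _) _

theorem M5_last : ∀ i : Fin 6, ∀ j, M5 i D5.l j = if j = D5.l then M5 i 4 4 else 0 := by decide +kernel

theorem bf_abs [Finite G] (H : Rel D5 a) (hA : ∀ i, Act D5 a (gen i) (M5 i))
    (ha : ∀ i, a i ∈ closure (Set.range gen)) (hc : Nat.card ↥(Nm (a 4)) ≤ 24000000) :
    BF D5 a gen M5 ∧ Nat.card ↥(Nm (a 4)) = 24000000 := by
  have hm : ∀ i, gen i ∈ Nm (a 4) := fun i => (hA i).mem_normalizer H (M5_last i)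
  have hK : closure (Set.range gen) ≤ Nm (a 4) := by
    rw [closure_le]; rintro _ ⟨i, rfl⟩; exact hm i
  have hN : closure (Set.range gen) = Nm (a 4) :=
    eq_of_le_of_card_ge hK (hc.trans (card_ge H hA (K := closure (Set.range gen))
      (fun i => Subgroup.subset_closure ⟨i, rfl⟩) ha).1)
  refine ⟨⟨H, hA, hN.symm, fun s hs => ?_⟩, le_antisymm hc (card_ge H hA hm (fun i => hK (ha i))).1⟩
  rw [act_one_iff] at hs
  have h1 := hs (Pi.single D5.l 1)
  rw [H.bf_l, pw_one] at h1
  exact (card_ge H hA hm (fun i => hK (ha i))).2 hc s (cent_le_Nm _ (mem_centralizer_singleton_iff.2 h1.symm)) hs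

end abs

/-! ### The instance -/

/-- the generators of the extraspecial group in the model -/
noncomputable def a5 (i : Fin 5) : H819.U33.G := g (wa i)

/-- the generators in the model -/
noncomputable def gen5 (i : Fin 6) : H819.U33.G := g (wgen5 i)

theorem a5_4 : a5 4 = g wv := rfl

theorem a5_pow (i : Fin 5) : a5 i ^ 5 = 1 := by
  fin_cases i
  exacts [pow_of_powF c_pow0, pow_of_powF c_pow1, pow_of_powF c_pow2, pow_of_powF c_pow3, pow_of_powF c_pow4]

theorem pw_cases {G : Type*} [Group G] {x : G} (h : x ^ 5 = 1) :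
    x * x = pw x (2 : ZMod 5) ∧ x⁻¹ * x⁻¹ = pw x (3 : ZMod 5) ∧ x⁻¹ = pw x (4 : ZMod 5) := by
  refine ⟨(pow_two x).symm, ?_, ?_⟩
  · show _ = x ^ 3
    calc x⁻¹ * x⁻¹ = x⁻¹ * x⁻¹ * x ^ 5 := by rw [h, mul_one]
      _ = x ^ 3 := by group
  · show _ = x ^ 4
    calc x⁻¹ = x⁻¹ * x ^ 5 := by rw [h, mul_one]
      _ = x ^ 4 := by group

theorem g_wp {w : List Ltr} (h : g w ^ 5 = 1) (c : ZMod 5) : g (wp w c) = pw (g w) c := by
  obtain ⟨h2, h3, h4⟩ := pw_cases h
  fin_cases c
  · exact g_nil.trans (pw_zero _).symm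
  · exact (pw_one _).symm
  · exact (g_append _ _).trans h2
  · exact (g_append _ _).trans (by rw [g_winv]; exact h3)
  · exact (g_winv _).trans h4

theorem com_of {i j : Fin 5} (h : eqF (wa i ++ wa j) (wp wv (D5.F i j) ++ wa j ++ wa i) = true) :
    a5 i * a5 j = pw (a5 D5.l) (D5.F i j) * a5 j * a5 i := by
  have h1 := eq_of_eqF h
  rw [g_append, g_append, g_append, g_wp (w := wv) (a5_pow 4)] at h1
  exact h1

theorem a5_com : ∀ i j : Fin 5, j < i → a5 i * a5 j = pw (a5 D5.l) (D5.F i j) * a5 j * a5 i := by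
  intro i j h
  match i, j, h with
  | 1, 0, _ => exact com_of c_com10
  | 2, 0, _ => exact com_of c_com20
  | 2, 1, _ => exact com_of c_com21
  | 3, 0, _ => exact com_of c_com30
  | 3, 1, _ => exact com_of c_com31
  | 3, 2, _ => exact com_of c_com32
  | 4, 0, _ => exact com_of c_com40
  | 4, 1, _ => exact com_of c_com41
  | 4, 2, _ => exact com_of c_com42
  | 4, 3, _ => exact com_of c_com43

theorem rel5 : Rel D5 a5 where
  prime := Nat.prime_five
  ok := D5_ok
  pow := a5_pow
  ne := by have h := ne_of_neF c_ne; rwa [g_nil] at h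
  cen i := by
    have h0 : ∀ j : Fin 5, D5.F 4 j = 0 := by decide +kernel
    by_cases h : i < 4
    · have h1 := a5_com 4 i h
      rw [h0, pw_zero, one_mul] at h1
      exact h1.symm
    · rw [show i = D5.l from le_antisymm (Fin.le_last i) (not_lt.1 h)]
  com := a5_com

theorem g_bfw (u : Fin 5 → ZMod 5) : g (bfw u) = bf D5 a5 u := by
  unfold bfw bf nf
  rw [g_append, g_append, g_append, g_append, g_wp (w := we0) (a5_pow 0), g_wp (w := we1) (a5_pow 1),
    g_wp (w := we2) (a5_pow 2), g_wp (w := we3) (a5_pow 3), g_wp (w := wv) (a5_pow 4), pw_add (x := g wv) (a5_pow 4)]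
  simp only [List.ofFn_succ, List.ofFn_zero, List.prod_cons, List.prod_nil, mul_one, mul_assoc]
  rfl

theorem bf_a5 (i : Fin 5) : bf D5 a5 (Pi.single i 1) = a5 i := by
  have h0 : ∀ j : Fin 5, D5.c j = 0 := by decide +kernel
  rw [bf_single, h0, pw_zero, mul_one]

theorem row_of {i : Fin 5} {c : Fin 6} (h : eqF (wa i ++ wgen5 c) (wgen5 c ++ bfw (M5 c i)) = true) :
    (gen5 c)⁻¹ * bf D5 a5 (Pi.single i 1) * gen5 c = bf D5 a5 (M5 c i) := by
  have h1 := eq_of_eqF h
  rw [g_append, g_append, g_bfw] at h1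
  rw [bf_a5, mul_assoc, inv_mul_eq_iff_eq_mul]
  exact h1

theorem act5 (c : Fin 6) : Act D5 a5 (gen5 c) (M5 c) := by
  have h1 : ∀ j : Fin 4, Act D5 a5 (a5 j.castSucc) (M5 (j.castLE (by norm_num))) := by
    have h : ∀ (j : Fin 4) (b a : Fin 5), M5 (j.castLE (by norm_num)) a b =
      (if a = b then (1 : ZMod 5) else 0) + if b = 4 then D5.Bm a j.castSucc else 0 := by decide +kernel
    intro j
    rw [← bf_a5]
    refine rel5.act_bf fun a b => ?_
    rw [h, mulVec, dotProduct_single, mul_one]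
    rfl
  have s4 : D5.Sim (M5 4) 2 := by unfold Num.Sim; decide +kernel
  have s5 : D5.Sim (M5 5) 4 := by unfold Num.Sim; decide +kernel
  fin_cases c
  · exact h1 0
  · exact h1 1
  · exact h1 2
  · exact h1 3
  · refine rel5.act_of s4 fun i => ?_
    fin_cases i
    exacts [row_of c_act40, row_of c_act41, row_of c_act42, row_of c_act43, row_of c_act44]
  · refine rel5.act_of s5 fun i => ?_
    fin_cases i
    exacts [row_of c_act50, row_of c_act51, row_of c_act52, row_of c_act53, row_of c_act54]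

theorem a5_mem (i : Fin 5) : a5 i ∈ closure (Set.range gen5) := by
  have hg : ∀ j, gen5 j ∈ closure (Set.range gen5) := fun j => subset_closure ⟨j, rfl⟩
  have h1 := rel5.bf_conj (Pi.single 0 1) (Pi.single 1 1)
  have c : (Pi.single 0 1 : Fin 5 → ZMod 5) ⬝ᵥ D5.Bm *ᵥ Pi.single 1 1 = 1 := by decide +kernel
  rw [rel5.bf_add_l, bf_a5, bf_a5, c, pw_one] at h1
  have h2 : a5 4 = (a5 0)⁻¹ * ((a5 1)⁻¹ * a5 0 * a5 1) := by
    rw [h1, inv_mul_cancel_left]; rfl
  have h3 : a5 0 ∈ closure (Set.range gen5) := hg 0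
  have h4 : a5 1 ∈ closure (Set.range gen5) := hg 1
  have h5 : a5 4 ∈ closure (Set.range gen5) := by
    rw [h2]; exact mul_mem (inv_mem h3) (mul_mem (mul_mem (inv_mem h4) h3) h4)
  fin_cases i
  exacts [hg 0, hg 1, hg 2, hg 3, h5]

theorem finG : Finite H819.U33.G :=
  Nat.finite_of_card_ne_zero (by
    have h : Nat.card H819.U33.G = 4154781481226426191177580544000000 := BabyM.Instance.all.card_G
    rw [h]; norm_num)

theorem order5 : orderOf (g wv) = 5 := by
  have := Fact.mk Nat.prime_five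
  exact orderOf_eq_prime (a5_pow 4) rel5.ne

theorem cent_dvd : 5 ^ 5 ∣ Nat.card ↥(centralizer ({g wv} : Set H819.U33.G)) := by
  rw [← card_QQ rel5]
  exact card_dvd_of_le (QQ_le_cent rel5)

/-- the only heavy input -/
def H5 : Prop := Nat.card ↥(centralizer ({g wv} : Set H819.U33.G)) ≤ 6000000

theorem card_N_le (h : H5) : Nat.card ↥(Nm (g wv)) ≤ 24000000 := by
  have := finG
  obtain ⟨c, hc, h1⟩ := card_Nm Nat.prime_five order5
  rw [h1]
  calc _ ≤ 6000000 * 4 := Nat.mul_le_mul h (Nat.le_of_dvd (by norm_num) hc)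
    _ = 24000000 := by norm_num

/-- **The frame at 5B, in Baer coordinates.** -/
theorem bf5 (h : H5) : BF D5 a5 gen5 M5 :=
  have := finG
  (bf_abs rel5 act5 a5_mem (card_N_le h)).1

/-- **The frame at 5B.** -/
theorem frame5 (h : H5) : Frame1 (g wv) gen5 M5 :=
  have := finG
  (bf5 h).frame1

theorem card_N (h : H5) : Nat.card ↥(Nm (g wv)) = 24000000 :=
  have := finG
  (bf_abs rel5 act5 a5_mem (card_N_le h)).2

theorem card_C (h : H5) : Nat.card ↥(centralizer ({g wv} : Set H819.U33.G)) = 6000000 := by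
  have := finG
  obtain ⟨c, hc, h1⟩ := card_Nm Nat.prime_five order5
  rw [card_N h] at h1
  have h2 : c ≤ 4 := Nat.le_of_dvd (by norm_num) hc
  have h3 := Nat.mul_le_mul_left (Nat.card ↥(centralizer ({g wv} : Set H819.U33.G))) h2
  have h4 : Nat.card ↥(centralizer ({g wv} : Set H819.U33.G)) ≤ 6000000 := h
  omega

/-- **From a word to its matrix** (no hypothesis): five kernel checks and the similitude check. -/
theorem act_of_chk {w : List Ltr} {X : Matrix (Fin 5) (Fin 5) (ZMod 5)} {μ : ZMod 5} (hX : D5.Sim X μ)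
    (h : ∀ i, eqF (wa i ++ w) (w ++ bfw (X i)) = true) : Act D5 a5 (g w) X := by
  refine rel5.act_of hX fun i => ?_
  have h1 := eq_of_eqF (h i)
  rw [g_append, g_append, g_bfw] at h1
  rw [bf_a5, mul_assoc, inv_mul_eq_iff_eq_mul]
  exact h1

/-- the word in the letters of a word in the generators -/
def evw (w : List (Fin 6 × ℕ)) : List Ltr := (w.map fun q => (List.replicate q.2 (wgen5 q.1)).flatten).flatten

theorem g_evw (w : List (Fin 6 × ℕ)) : g (evw w) = ev gen5 w := by
  induction w with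
  | nil => exact g_nil
  | cons q w ih =>
    have e : evw (q :: w) = (List.replicate q.2 (wgen5 q.1)).flatten ++ evw w := rfl
    rw [e, g_append, ih, ev_cons, g_flatten, List.map_replicate, List.prod_replicate]
    rfl

end Cfsg.Agent.BX.Frame.Fr5

private theorem eqs_bx9_fr5 : _root_.True := by
  try have : _root_.True := by simp only [_root_.Cfsg.Agent.BX.Frame.Fr5.el.eq_1]
  try have : _root_.True := by simp only [_root_.Cfsg.Agent.BX.Frame.Fr5.vec.eq_1]
  try have : _root_.True := by simp only [_root_.Cfsg.Agent.BX.Frame.Fr5.code.eq_1]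
  try have : _root_.True := by simp only [_root_.Cfsg.Agent.BX.Frame.Fr5.a5.eq_1]
  try have : _root_.True := by simp only [_root_.Cfsg.Agent.BX.Frame.Fr5.gen5.eq_1]
  try have : _root_.True := by simp only [_root_.Cfsg.Agent.BX.Frame.Fr5.H5.eq_1]
  try have : _root_.True := by simp only [_root_.Cfsg.Agent.BX.Frame.Fr5.evw.eq_1]
  exact _root_.True.intro
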