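import Cfsg.Agent.BX.Cov.Glue
set_option linter.all false
open scoped Cfsg.Agent.FastGrp

/-!
# Frames: complements to `BX/Cov/Glue` (helper9)

* `quot` : the quotient of `N(⟨y⟩)` by `⟨y⟩` as a matrix group;
* `norm_of_model` : a word normalises `⟨aw, y⟩` if this holds for the matrices.
-/

set_option autoImplicit false

namespace Cfsg.Agent.BX.Frame

open Subgroup Cfsg.Agent.BX.Cov

theorem ev_mem {H : Type*} [Group H] {r : ℕ} {gen : Fin r → H} {K : Subgroup H} (h : ∀ i, gen i ∈ K)
    (w : List (Fin r × ℕ)) : ev gen w ∈ K := by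
  induction w with
  | nil => exact K.one_mem
  | cons q w ih => rw [ev_cons]; exact K.mul_mem (K.pow_mem (h _) _) ih

theorem ev_mem_gp {H : Type*} [Group H] {r : ℕ} (gen : Fin r → H) {l : List (List (Fin r × ℕ))} {w : List (Fin r × ℕ)}
    (h : w ∈ l) : ev gen w ∈ gp gen l := subset_closure ⟨w, h, rfl⟩

theorem map_gp {H H' : Type*} [Group H] [Group H'] {r : ℕ} (f : H →* H') (gen : Fin r → H)
    (l : List (List (Fin r × ℕ))) : (gp gen l).map f = gp (fun i => f (gen i)) l := by
  delta gp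
  rw [MonoidHom.map_closure]
  congr 1
  ext x
  constructor
  · rintro ⟨_, ⟨w, hw, rfl⟩, rfl⟩
    exact ⟨w, hw, map_ev f gen w⟩
  · rintro ⟨w, hw, rfl⟩
    exact ⟨_, ⟨w, hw, rfl⟩, map_ev f gen w⟩

/-- the normaliser of the group generated by `y` -/
abbrev Nm {G : Type*} [Group G] (y : G) : Subgroup G := normalizer ((zpowers y : Subgroup G) : Set G)

/-- **The quotient by `⟨y⟩` as a matrix group.** -/
theorem quot {G : Type} [Group G] [Finite G] {p m r : ℕ} {y : G} {gen : Fin r → G}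
    {M : Fin r → Matrix (Fin m) (Fin m) (ZMod p)} (hF : Frame1 y gen M) :
    ∃ (H : Type) (_ : Group H) (_ : Finite H) (π : Nm y →* H) (h : ∀ i, gen i ∈ Nm y)
      (σ : H →* Matrix (Fin m) (Fin m) (ZMod p)), Function.Surjective π ∧ Function.Injective σ ∧
      (∀ i, σ (π ⟨gen i, h i⟩) = M i) ∧ closure (Set.range fun i => π ⟨gen i, h i⟩) = ⊤ ∧
      (∀ s, π s = 1 ↔ (s : G) ∈ zpowers y) ∧
      ∀ (l : List (List (Fin r × ℕ))) (s : Nm y), π s ∈ gp (fun i => π ⟨gen i, h i⟩) l ↔ (s : G) ∈ gp gen l ⊔ zpowers y := by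
  obtain ⟨ρ, h, hk, hg, hN⟩ := hF
  have hz : (ρ.ker).map (Nm y).subtype = zpowers y := by
    ext x
    constructor
    · rintro ⟨s, hs, rfl⟩
      exact (hk s).1 hs
    · intro hx
      exact ⟨⟨x, le_normalizer hx⟩, (hk _).2 hx, rfl⟩
  have key : ∀ (K : Subgroup (Nm y)) (s : Nm y), QuotientGroup.mk' ρ.ker s ∈ K.map (QuotientGroup.mk' ρ.ker) ↔
      (s : G) ∈ K.map (Nm y).subtype ⊔ zpowers y := by
    intro K s
    have e : K.map (Nm y).subtype ⊔ zpowers y = (K ⊔ ρ.ker).map (Nm y).subtype := by rw [Subgroup.map_sup, hz]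
    rw [← mem_comap, comap_map_eq, QuotientGroup.ker_mk', e]
    exact (mem_map_iff_mem (Nm y).subtype_injective).symm
  refine ⟨Nm y ⧸ ρ.ker, inferInstance, inferInstance, QuotientGroup.mk' _, h, QuotientGroup.lift _ ρ fun x hx => hx,
    QuotientGroup.mk'_surjective _, ?_, fun i => hg i, ?_, fun s => ?_, fun l s => ?_⟩
  · intro a b hab
    obtain ⟨a, rfl⟩ := QuotientGroup.mk_surjective a
    obtain ⟨b, rfl⟩ := QuotientGroup.mk_surjective b
    have h1 : ρ a = ρ b := hab
    rw [QuotientGroup.eq, MonoidHom.mem_ker, map_mul, ← h1, ← map_mul, inv_mul_cancel, map_one]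
  · rw [eq_top_iff]
    intro a _
    obtain ⟨s, rfl⟩ := QuotientGroup.mk'_surjective _ a
    have h1 := (key (closure (Set.range fun i => (⟨gen i, h i⟩ : Nm y))) s).2 (by
      rw [MonoidHom.map_closure, ← Set.range_comp]
      exact hN s.2)
    rwa [MonoidHom.map_closure, ← Set.range_comp] at h1
  · rw [QuotientGroup.mk'_apply, QuotientGroup.eq_one_iff]
    exact hk s
  · have h1 := key (gp (fun i => (⟨gen i, h i⟩ : Nm y)) l) s
    rw [map_gp, map_gp] at h1
    exact h1

/-- the words `dw` normalise `⟨aw, y⟩` if this holds in every faithful model -/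
theorem norm_of_model {G : Type} [Group G] [Finite G] {p m r : ℕ} {y : G} {gen : Fin r → G}
    {M : Fin r → Matrix (Fin m) (Fin m) (ZMod p)} (hF : Frame1 y gen M) {aw : List (List (Fin r × ℕ))}
    {d : List (Fin r × ℕ)} (h : ∀ a ∈ aw, ∃ l : List (List (Fin r × ℕ)), (∀ u ∈ l, u ∈ aw) ∧
      ev M (d ++ a) = ev M (l.flatten ++ d)) :
    ev gen d ∈ normalizer ((gp gen aw ⊔ zpowers y : Subgroup G) : Set G) := by
  obtain ⟨H, _, _, π, hm, σ, hs, hi, hM, htop, hk, hg⟩ := quot hF
  have he : ∀ w, ev (fun i => π ⟨gen i, hm i⟩) w = π ⟨ev gen w, ev_mem hm w⟩ := fun w => by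
    rw [← map_ev π fun i => ⟨gen i, hm i⟩]
    congr 1
    exact Subtype.ext (map_ev (Nm y).subtype _ w)
  have hσ : ∀ w, σ (ev (fun i => π ⟨gen i, hm i⟩) w) = ev M w := fun w => by
    rw [map_ev]
    exact congrArg (fun f => ev f w) (funext hM)
  have h1 : ev (fun i => π ⟨gen i, hm i⟩) d ∈
      normalizer ((gp (fun i => π ⟨gen i, hm i⟩) aw : Subgroup H) : Set H) := by
    refine mem_normalizer_fintype fun x hx => ?_
    induction hx using closure_induction with
    | mem x hx =>
      obtain ⟨a, ha, rfl⟩ := hx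
      obtain ⟨l, hl, e⟩ := h a ha
      rw [← hσ, ← hσ] at e
      have e1 := hi e
      rw [ev_append, ev_append] at e1
      rw [e1, mul_inv_cancel_right]
      clear e e1
      induction l with
      | nil => exact one_mem _
      | cons u l ih =>
        rw [List.flatten_cons, ev_append]
        exact mul_mem (ev_mem_gp _ (hl u List.mem_cons_self)) (ih fun v hv => hl v (List.mem_cons_of_mem _ hv))
    | one => rw [mul_one, mul_inv_cancel]; exact one_mem _
    | mul a b _ _ ha hb =>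
      have := mul_mem ha hb
      rwa [mul_assoc, mul_assoc, mul_assoc, inv_mul_cancel_left, ← mul_assoc, ← mul_assoc, mul_assoc _ a] at this
    | inv a _ ha =>
      have := inv_mem ha
      rwa [mul_inv_rev, mul_inv_rev, inv_inv, ← mul_assoc] at this
  have hle : gp gen aw ⊔ zpowers y ≤ Nm y := sup_le (gp_le fun w _ => ev_mem hm w) le_normalizer
  refine mem_normalizer_fintype fun x hx => ?_
  have h2 := (mem_normalizer_iff.1 h1 (π ⟨x, hle hx⟩)).1 ((hg aw ⟨x, hle hx⟩).2 hx)
  rw [he, ← map_inv, ← map_mul, ← map_mul] at h2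
  exact (hg aw _).1 h2

end Cfsg.Agent.BX.Frame
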