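import Cfsg.Agent.BX.Frame.Baer0
import Cfsg.Agent.H904.SylOne
import Cfsg.Agent.BX.Frame.Iface
import Cfsg.Agent.FastGrp
set_option linter.all false
open scoped Cfsg.Agent.FastGrp

/-!
# Frames in Baer coordinates (helper9)

`BF D a gen M` : `Q = {bf D a u}` is extraspecial with centre `⟨y⟩`, `y = a D.l`; the normaliser `N` of `⟨y⟩` is generated by `gen`,
`gen i` acts on `Q` by `M i`, and `C(Q) ≤ ⟨y⟩`.  Then `h.rho : N →* Matrix` is the action on `Q`.
-/

set_option autoImplicit false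
set_option linter.unusedSectionVars false

namespace Cfsg.Agent.BX.Frame

open Subgroup Matrix Cfsg.Agent.BX.Frame.Baer Cfsg.Agent.BX.Cov

theorem cent_zp {G : Type*} [Group G] (x : G) :
    centralizer ((zpowers x : Subgroup G) : Set G) = centralizer ({x} : Set G) := by
  ext c
  rw [mem_centralizer_iff, mem_centralizer_singleton_iff]
  refine ⟨fun h => (h x (mem_zpowers x)).symm, fun h b hb => ?_⟩
  obtain ⟨k, rfl⟩ := mem_zpowers_iff.1 hb
  exact ((show Commute c x from h).zpow_right k).symm.eq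

theorem cent_le_Nm {G : Type*} [Group G] (x : G) : centralizer ({x} : Set G) ≤ Nm x := by
  rw [← cent_zp]
  exact centralizer_le_normalizer _

/-- `|N(⟨x⟩)| = |C(x)| e`, `e ∣ p - 1` -/
theorem card_Nm {G : Type*} [Group G] [Finite G] {p : ℕ} (hp : p.Prime) {x : G} (hx : orderOf x = p) :
    ∃ e, e ∣ p - 1 ∧ Nat.card (Nm x) = Nat.card (centralizer ({x} : Set G)) * e := by
  have := Fact.mk hp
  obtain ⟨e, he, h⟩ := H904.SylOne.card_nc (P := zpowers x) (p := p) (by rw [Nat.card_zpowers, hx])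
  exact ⟨e, he, by rw [h, cent_zp]⟩

variable {G : Type*} [Group G] {p m r : ℕ}

/-- a frame in Baer coordinates -/
structure BF (D : Num p m) (a : Fin m → G) (gen : Fin r → G) (M : Fin r → Matrix (Fin m) (Fin m) (ZMod p)) : Prop where
  rel : Rel D a
  act : ∀ i, Act D a (gen i) (M i)
  gen_eq : Nm (a D.l) = closure (Set.range gen)
  ker : ∀ s : G, Act D a s 1 → s ∈ zpowers (a D.l)

variable [NeZero p] [Fact (1 < p)] {D : Num p m} {a : Fin m → G} {gen : Fin r → G}
  {M : Fin r → Matrix (Fin m) (Fin m) (ZMod p)}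

/-- the extraspecial group -/
def QQ (H : Rel D a) : Subgroup G where
  carrier := Set.range (bf D a)
  one_mem' := ⟨0, bf_zero⟩
  mul_mem' := by rintro _ _ ⟨u, rfl⟩ ⟨v, rfl⟩; exact ⟨_, (H.bf_mul u v).symm⟩
  inv_mem' := by rintro _ ⟨u, rfl⟩; exact ⟨_, H.bf_neg u⟩

theorem mem_QQ (H : Rel D a) {x : G} : x ∈ QQ H ↔ ∃ u, bf D a u = x := Iff.rfl

theorem bf_mem_QQ (H : Rel D a) (u : Fin m → ZMod p) : bf D a u ∈ QQ H := ⟨u, rfl⟩

theorem card_QQ (H : Rel D a) : Nat.card (QQ H) = p ^ m := by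
  have h2 : Nat.card (QQ H) = Nat.card (Fin m → ZMod p) := (Nat.card_congr (Equiv.ofInjective _ H.bf_inj)).symm
  rw [h2, Nat.card_fun, Nat.card_zmod, Nat.card_eq_fintype_card, Fintype.card_fin]

theorem y_mem_QQ (H : Rel D a) : a D.l ∈ QQ H := ⟨Pi.single D.l 1, by rw [H.bf_l, pw_one]⟩

theorem bf_comm_y (H : Rel D a) (u : Fin m → ZMod p) : Commute (bf D a u) (a D.l) :=
  (nf_comm H.cen u).mul_left ((Commute.refl _).pow_left _)

theorem QQ_le_cent (H : Rel D a) : QQ H ≤ centralizer ({a D.l} : Set G) := by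
  rintro _ ⟨u, rfl⟩
  exact mem_centralizer_singleton_iff.2 (bf_comm_y H u)

theorem order_y (H : Rel D a) : orderOf (a D.l) = p := by
  have := Fact.mk H.prime
  exact orderOf_eq_prime (H.pow _) H.ne

/-- two elements of `Q` commute iff the form vanishes -/
theorem bf_comm_iff (H : Rel D a) (u w : Fin m → ZMod p) :
    bf D a u * bf D a w = bf D a w * bf D a u ↔ u ⬝ᵥ D.Bm *ᵥ w = 0 := by
  have h1 := H.bf_conj u w
  rw [H.bf_add_l, mul_assoc, inv_mul_eq_iff_eq_mul] at h1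
  rw [h1, ← mul_assoc, mul_eq_left]
  exact ⟨fun h => pw_eq_one H.prime (H.pow _) H.ne h, fun h => by rw [h, pw_zero]⟩

theorem bf_pow (H : Rel D a) (u : Fin m → ZMod p) (n : ℕ) : bf D a u ^ n = bf D a ((n : ZMod p) • u) := by
  induction n with
  | zero => rw [pow_zero, Nat.cast_zero, zero_smul, bf_zero]
  | succ n ih =>
    rw [pow_succ, ih, H.bf_mul, smul_dotProduct, Bm_self, smul_zero, mul_zero, Pi.single_zero, add_zero, Nat.cast_succ,
      add_smul, one_smul]

theorem bf_pow_p (H : Rel D a) (u : Fin m → ZMod p) : bf D a u ^ p = 1 := by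
  rw [bf_pow H, ZMod.natCast_self, zero_smul, bf_zero]

theorem Act.inv_of {s : G} {X Y : Matrix (Fin m) (Fin m) (ZMod p)} (h : Act D a s X) (hY : Y * X = 1) :
    Act D a s⁻¹ Y := by
  intro u
  have h1 := h (u ᵥ* Y)
  rw [vecMul_vecMul, hY, vecMul_one] at h1
  rw [← h1]
  group

namespace BF

variable [Finite G]

theorem gen_mem (h : BF D a gen M) (i : Fin r) : gen i ∈ Nm (a D.l) := by
  rw [h.gen_eq]
  exact subset_closure ⟨i, rfl⟩

/-- the action on `Q` -/
noncomputable def rho (h : BF D a gen M) : Nm (a D.l) →* Matrix (Fin m) (Fin m) (ZMod p) :=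
  (h.rel.exists_rep h.act h.gen_eq.le).choose

theorem act_rho (h : BF D a gen M) (s : Nm (a D.l)) : Act D a s (h.rho s) :=
  (h.rel.exists_rep h.act h.gen_eq.le).choose_spec s

theorem rho_eq (h : BF D a gen M) {s : Nm (a D.l)} {X : Matrix (Fin m) (Fin m) (ZMod p)} (hX : Act D a s X) :
    h.rho s = X := (h.act_rho s).unique h.rel hX

theorem exists_act (h : BF D a gen M) {s : G} (hs : s ∈ Nm (a D.l)) : ∃ X, Act D a s X := ⟨_, h.act_rho ⟨s, hs⟩⟩

theorem rho_gen (h : BF D a gen M) (i : Fin r) : h.rho ⟨gen i, h.gen_mem i⟩ = M i := h.rho_eq (h.act i)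

theorem rho_ker (h : BF D a gen M) (s : Nm (a D.l)) : h.rho s = 1 ↔ (s : G) ∈ zpowers (a D.l) :=
  ⟨fun e => h.ker s (e ▸ h.act_rho s), fun e => h.rho_eq (h.rel.act_y e)⟩

theorem frame1 (h : BF D a gen M) : Frame1 (a D.l) gen M :=
  ⟨h.rho, h.gen_mem, h.rho_ker, h.rho_gen, h.gen_eq.le.trans le_sup_left⟩

theorem act_ev (h : BF D a gen M) (w : List (Fin r × ℕ)) : Act D a (ev gen w) (ev M w) := by
  have h1 := h.act_rho (ev (fun i => ⟨gen i, h.gen_mem i⟩) w)
  rw [map_ev, funext h.rho_gen] at h1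
  have h2 := map_ev (Nm (a D.l)).subtype (fun i => ⟨gen i, h.gen_mem i⟩) w
  exact (show _ = ev gen w from h2) ▸ h1

theorem ev_mem_N (h : BF D a gen M) (w : List (Fin r × ℕ)) : ev gen w ∈ Nm (a D.l) := ev_mem h.gen_mem w

/-- **two elements with the same matrix differ by a power of `y`** -/
theorem eq_of_act (h : BF D a gen M) {s t : G} {X : Matrix (Fin m) (Fin m) (ZMod p)} (hs : Act D a s X)
    (ht : Act D a t X) : ∃ c : ZMod p, s = t * pw (a D.l) c := by
  have h1 : Act D a (t⁻¹ * s) 1 := by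
    intro u
    obtain ⟨v, hv⟩ : ∃ v, v ᵥ* X = u := by
      refine Finite.surjective_of_injective (f := fun v => v ᵥ* X) (fun v v' e => h.rel.bf_inj ?_) u
      have e1 : bf D a (v ᵥ* X) = bf D a (v' ᵥ* X) := congrArg _ e
      rw [← hs, ← hs] at e1
      exact mul_left_cancel (mul_right_cancel e1)
    rw [vecMul_one, ← hv]
    calc _ = s⁻¹ * (t * bf D a (v ᵥ* X) * t⁻¹) * s := by group
      _ = s⁻¹ * bf D a v * s := by rw [← ht]; group
      _ = _ := hs v
  obtain ⟨k, hk⟩ := mem_powers_iff_mem_zpowers.2 (h.ker _ h1)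
  refine ⟨(k : ZMod p), ?_⟩
  rw [pw, ZMod.val_natCast, ← pow_eq_pow_mod _ (h.rel.pow _)]
  have hk' : a D.l ^ k = t⁻¹ * s := hk
  rw [hk', mul_inv_cancel_left]

/-- every element of `N` is a word in the generators -/
theorem exists_word (h : BF D a gen M) {s : G} (hs : s ∈ Nm (a D.l)) : ∃ w, s = ev gen w := by
  rw [h.gen_eq, ← mem_toSubmonoid, closure_toSubmonoid_of_finite] at hs
  induction hs using Submonoid.closure_induction with
  | mem x hx => obtain ⟨i, rfl⟩ := hx; exact ⟨[(i, 1)], by rw [ev_cons, ev_nil, pow_one, mul_one]⟩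
  | one => exact ⟨[], rfl⟩
  | mul x y _ _ hx hy => obtain ⟨v, rfl⟩ := hx; obtain ⟨w, rfl⟩ := hy; exact ⟨v ++ w, (ev_append _ _ _).symm⟩

/-- a property of the matrices which holds for the generators and is multiplicative holds for all elements -/
theorem induct (h : BF D a gen M) {P : Matrix (Fin m) (Fin m) (ZMod p) → Prop} (h1 : P 1) (hg : ∀ i, P (M i))
    (hm : ∀ X Y, P X → P Y → P (X * Y)) {s : G} (hs : s ∈ Nm (a D.l)) {X : Matrix (Fin m) (Fin m) (ZMod p)}
    (hX : Act D a s X) : P X := by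
  obtain ⟨w, rfl⟩ := h.exists_word hs
  rw [hX.unique h.rel (h.act_ev w)]
  clear hX hs
  induction w with
  | nil => exact h1
  | cons q w ih =>
    rw [ev_cons]
    refine hm _ _ ?_ ih
    induction q.2 with
    | zero => rw [pow_zero]; exact h1
    | succ n ih => rw [pow_succ]; exact hm _ _ ih (hg _)

theorem conj_mem_QQ (h : BF D a gen M) {s x : G} (hs : s ∈ Nm (a D.l)) (hx : x ∈ QQ h.rel) : s⁻¹ * x * s ∈ QQ h.rel := by
  obtain ⟨u, rfl⟩ := hx
  exact ⟨_, (h.act_rho ⟨s, hs⟩ u).symm⟩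

theorem QQ_le_N (h : BF D a gen M) : QQ h.rel ≤ Nm (a D.l) := (QQ_le_cent h.rel).trans (cent_le_Nm _)

theorem N_le_normQ (h : BF D a gen M) : Nm (a D.l) ≤ normalizer ((QQ h.rel : Subgroup G) : Set G) := by
  intro s hs
  refine mem_normalizer_fintype fun x hx => ?_
  have := h.conj_mem_QQ (inv_mem hs) hx
  rwa [inv_inv] at this

/-- `C(Q) ≤ ⟨y⟩` -/
theorem cent_QQ (h : BF D a gen M) {s : G} (hs : ∀ x ∈ QQ h.rel, x * s = s * x) : s ∈ zpowers (a D.l) :=
  h.ker s (act_one_iff.2 fun u => hs _ ⟨u, rfl⟩)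

/-- `N(Q) = N(⟨y⟩)` -/
theorem normQ_le_N (h : BF D a gen M) : normalizer ((QQ h.rel : Subgroup G) : Set G) ≤ Nm (a D.l) := by
  intro s hs
  refine mem_normalizer_fintype fun x hx => h.cent_QQ fun q hq => ?_
  have h1 : s⁻¹ * q * s⁻¹⁻¹ ∈ QQ h.rel := (mem_normalizer_iff.1 (inv_mem hs) q).1 hq
  have h2 := mem_centralizer_singleton_iff.1 (QQ_le_cent h.rel h1)
  obtain ⟨k, rfl⟩ := mem_zpowers_iff.1 hx
  have h3 := ((show Commute _ _ from h2).zpow_right k).eq
  calc q * (s * a D.l ^ k * s⁻¹) = s * (s⁻¹ * q * s⁻¹⁻¹ * a D.l ^ k) * s⁻¹ := by group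
    _ = s * (a D.l ^ k * (s⁻¹ * q * s⁻¹⁻¹)) * s⁻¹ := by rw [h3]
    _ = _ := by group

end BF

end Cfsg.Agent.BX.Frame

private theorem eqs_bx9_baer : _root_.True := by
  try have : _root_.True := by simp only [_root_.Cfsg.Agent.BX.Frame.QQ.eq_1]
  try have : _root_.True := by simp only [_root_.Cfsg.Agent.BX.Frame.BF.rho.eq_1]
  exact _root_.True.intro
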