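import Mathlib.Data.ZMod.Basic
import Mathlib.Data.Matrix.Mul
import Mathlib.Algebra.Field.ZMod
import Mathlib.GroupTheory.OrderOfElement
import Mathlib.GroupTheory.Subgroup.Centralizer
import Mathlib.Tactic
import Cfsg.Agent.FastGrp
set_option linter.all false
open scoped Cfsg.Agent.FastGrp

/-!
# Baer coordinates on an extraspecial group of odd exponent (a copy of `BMx/FrBaer` with light imports)

`a 0, …, a (m-1)` are elements of order dividing `p` whose commutators are powers of the central element `y = a l`.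
`bf u` is the product of the powers `a i ^ u i`, corrected by a power of `y` such that automorphisms become linear.
-/

set_option autoImplicit false
set_option linter.unusedSectionVars false

namespace Cfsg.Agent.BX.Frame.Baer

open Matrix

variable {G : Type*} [Group G] {p : ℕ}

/-- powers with exponents modulo `p` -/
def pw (x : G) (c : ZMod p) : G := x ^ c.val

section pw

variable [NeZero p] [Fact (1 < p)]

theorem pw_zero (x : G) : pw x (0 : ZMod p) = 1 := by rw [pw, ZMod.val_zero, pow_zero]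

theorem pw_one (x : G) : pw x (1 : ZMod p) = x := by rw [pw, ZMod.val_one, pow_one]

theorem pw_add {x : G} (hx : x ^ p = 1) (c d : ZMod p) : pw x (c + d) = pw x c * pw x d := by
  rw [pw, pw, pw, ZMod.val_add, ← pow_eq_pow_mod _ hx, pow_add]

theorem pw_pw {x : G} (hx : x ^ p = 1) (c d : ZMod p) : pw (pw x c) d = pw x (c * d) := by
  rw [pw, pw, pw, ZMod.val_mul, ← pow_eq_pow_mod _ hx, pow_mul]

theorem pw_eq_one (hp : p.Prime) {x : G} (hx : x ^ p = 1) (h1 : x ≠ 1) {c : ZMod p} (h : pw x c = 1) : c = 0 := by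
  have := Fact.mk hp
  have h2 : orderOf x = p := orderOf_eq_prime hx h1
  have h3 := orderOf_dvd_of_pow_eq_one h
  rw [h2] at h3
  exact (ZMod.val_eq_zero c).1 (Nat.eq_zero_of_dvd_of_lt h3 (ZMod.val_lt c))

theorem conj_pw (s x : G) (c : ZMod p) : s⁻¹ * pw x c * s = pw (s⁻¹ * x * s) c := by
  have h := conj_pow (i := c.val) (a := s⁻¹) (b := x)
  rw [inv_inv] at h
  exact h.symm

theorem swap_pow {x z y : G} (hy : y ^ p = 1) (hx : x * y = y * x) {c : ZMod p} (h : x * z = pw y c * z * x) (n : ℕ) :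
    x ^ n * z = pw y (c * (n : ZMod p)) * z * x ^ n := by
  induction n with
  | zero => simp [pw_zero]
  | succ n ih =>
    have h1 : x * pw y (c * (n : ZMod p)) = pw y (c * (n : ZMod p)) * x := ((show Commute x y from hx).pow_right _).eq
    rw [pow_succ', mul_assoc, ih, ← mul_assoc, ← mul_assoc, h1, mul_assoc (pw y _), h, Nat.cast_succ, mul_add, mul_one,
      pw_add hy]
    simp only [mul_assoc]

theorem swap_pw {x z y : G} (hy : y ^ p = 1) (hx : x * y = y * x) {c : ZMod p} (h : x * z = pw y c * z * x)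
    (u : ZMod p) : pw x u * z = pw y (c * u) * z * pw x u := by
  have h1 := swap_pow hy hx h u.val
  rwa [ZMod.natCast_zmod_val] at h1

end pw

/-- ordered products of powers -/
def nf {m : ℕ} (a : Fin m → G) (u : Fin m → ZMod p) : G := (List.ofFn fun i => pw (a i) (u i)).prod

theorem nf_succ {m : ℕ} (a : Fin (m + 1) → G) (u : Fin (m + 1) → ZMod p) :
    nf a u = pw (a 0) (u 0) * nf (fun i => a i.succ) (fun i => u i.succ) := by
  rw [nf, List.ofFn_succ, List.prod_cons]; rfl

theorem nf_comm {m : ℕ} {a : Fin m → G} {y : G} (h : ∀ i, a i * y = y * a i) (u : Fin m → ZMod p) :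
    Commute (nf a u) y := by
  refine Commute.list_prod_left _ _ fun x hx => ?_
  obtain ⟨i, rfl⟩ := (List.mem_ofFn' _ _).1 hx
  exact (show Commute (a i) y from h i).pow_left _

/-- the strictly lower triangular part -/
def low {m : ℕ} (F : Matrix (Fin m) (Fin m) (ZMod p)) : Matrix (Fin m) (Fin m) (ZMod p) :=
  Matrix.of fun i j => if j < i then F i j else 0

section nf

variable [NeZero p] [Fact (1 < p)]

theorem nf_swap {y z : G} (hy : y ^ p = 1) : ∀ {m : ℕ} (a : Fin m → G) (c u : Fin m → ZMod p),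
    (∀ i, a i * y = y * a i) → (∀ i, a i * z = pw y (c i) * z * a i) →
      nf a u * z = pw y (∑ i, c i * u i) * z * nf a u := by
  intro m
  induction m with
  | zero => intro a c u _ _; simp [nf, pw_zero]
  | succ m ih =>
    intro a c u h1 h2
    have h3 := ih (fun i => a i.succ) (fun i => c i.succ) (fun i => u i.succ) (fun i => h1 _) (fun i => h2 _)
    have h4 := swap_pw hy (h1 0) (h2 0) (u 0)
    have h5 : ∀ d : ZMod p, pw (a 0) (u 0) * pw y d = pw y d * pw (a 0) (u 0) := fun d =>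
      ((show Commute (a 0) y from h1 0).pow_pow _ _).eq
    rw [nf_succ, mul_assoc, h3, ← mul_assoc, ← mul_assoc, h5, mul_assoc (pw y _), h4, Fin.sum_univ_succ,
      add_comm (c 0 * u 0), pw_add hy]
    simp only [mul_assoc]

theorem low_succ {m : ℕ} (F : Matrix (Fin (m + 1)) (Fin (m + 1)) (ZMod p)) (u v : Fin (m + 1) → ZMod p) :
    u ⬝ᵥ low F *ᵥ v = (∑ i : Fin m, F i.succ 0 * v 0 * u i.succ) +
      (fun i => u i.succ) ⬝ᵥ low (Matrix.of fun i j => F i.succ j.succ) *ᵥ (fun i => v i.succ) := by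
  simp only [dotProduct, mulVec, low, Matrix.of_apply, Fin.sum_univ_succ, Fin.not_lt_zero, if_false, zero_mul,
    Finset.sum_const_zero, Fin.succ_pos, if_true, Fin.succ_lt_succ_iff, mul_add, Finset.sum_add_distrib,
    zero_add, mul_zero]
  congr 1
  exact Finset.sum_congr rfl fun i _ => by ring

theorem nf_mul {y : G} (hy : y ^ p = 1) : ∀ {m : ℕ} (a : Fin m → G) (F : Matrix (Fin m) (Fin m) (ZMod p))
    (u v : Fin m → ZMod p), (∀ i, a i ^ p = 1) → (∀ i, a i * y = y * a i) →
    (∀ i j, j < i → a i * a j = pw y (F i j) * a j * a i) →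
      nf a u * nf a v = pw y (u ⬝ᵥ low F *ᵥ v) * nf a (u + v) := by
  intro m
  induction m with
  | zero => intro a F u v _ _ _; simp [nf, pw_zero]
  | succ m ih =>
    intro a F u v h0 h1 h2
    have h3 := ih (fun i => a i.succ) (Matrix.of fun i j => F i.succ j.succ) (fun i => u i.succ) (fun i => v i.succ)
      (fun i => h0 _) (fun i => h1 _) (fun i j hij => h2 _ _ (Fin.succ_lt_succ_iff.2 hij))
    have h4 := nf_swap (z := pw (a 0) (v 0)) hy (fun i => a i.succ) (fun i => F i.succ 0 * v 0) (fun i => u i.succ) (fun i => h1 _)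
      (fun i => by
        have k1 := h2 i.succ 0 (Fin.succ_pos i)
        have k2 : a 0 * a i.succ = pw y (-F i.succ 0) * a i.succ * a 0 := by
          rw [mul_assoc, k1, ← mul_assoc, ← mul_assoc, ← pw_add hy, neg_add_cancel, pw_zero, one_mul]
        have k3 := swap_pw hy (h1 0) k2 (v 0)
        rw [mul_assoc, k3, ← mul_assoc, ← mul_assoc, ← pw_add hy, neg_mul, add_neg_cancel, pw_zero, one_mul])
    have h5 : ∀ (c d : ZMod p), pw (a 0) c * pw y d = pw y d * pw (a 0) c := fun c d =>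
      ((show Commute (a 0) y from h1 0).pow_pow _ _).eq
    rw [nf_succ, nf_succ, nf_succ, low_succ, pw_add hy, Pi.add_apply, pw_add (h0 0)]
    calc _ = pw (a 0) (u 0) * (nf (fun i => a i.succ) (fun i => u i.succ) * pw (a 0) (v 0)) *
          nf (fun i => a i.succ) (fun i => v i.succ) := by simp only [mul_assoc]
      _ = pw y (∑ i : Fin m, F i.succ 0 * v 0 * u i.succ) * (pw (a 0) (u 0) * pw (a 0) (v 0)) *
          (nf (fun i => a i.succ) (fun i => u i.succ) * nf (fun i => a i.succ) (fun i => v i.succ)) := by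
        rw [h4, ← mul_assoc, ← mul_assoc, h5]; simp only [mul_assoc]
      _ = _ := by
        rw [h3, ← pw_add (h0 0), ← mul_assoc, mul_assoc (pw y _), h5, pw_add (h0 0)]
        simp only [mul_assoc]
        rfl

theorem nf_single : ∀ {m : ℕ} (a : Fin m → G) (i : Fin m) (c : ZMod p), nf a (Pi.single i c) = pw (a i) c := by
  intro m
  induction m with
  | zero => intro a i; exact i.elim0
  | succ m ih =>
    intro a i c
    have h0 : ∀ {k : ℕ} (b : Fin k → G), nf b (0 : Fin k → ZMod p) = 1 := by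
      intro k b
      refine List.prod_eq_one fun x hx => ?_
      obtain ⟨j, rfl⟩ := (List.mem_ofFn' _ _).1 hx
      exact pw_zero _
    rw [nf_succ]
    refine Fin.cases ?_ (fun i => ?_) i
    · have e : (fun i : Fin m => (Pi.single 0 c : Fin (m + 1) → ZMod p) i.succ) = 0 := by
        funext j; simp
      rw [e, h0, mul_one, Pi.single_eq_same]
    · have e : (fun j : Fin m => (Pi.single i.succ c : Fin (m + 1) → ZMod p) j.succ) = Pi.single i c := by
        funext j; simp [Pi.single_apply]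
      rw [e, ih, Pi.single_eq_of_ne (Fin.succ_ne_zero i).symm, pw_zero, one_mul]

end nf

/-- the numerical data: commutator matrix `F`, linear shift `c`, `h = 1/2`, the index `l` of the centre, and a matrix
`R` inverting the form outside the centre -/
structure Num (p m : ℕ) where
  /-- commutators -/
  F : Matrix (Fin m) (Fin m) (ZMod p)
  /-- shift -/
  c : Fin m → ZMod p
  /-- one half -/
  h : ZMod p
  /-- index of the centre -/
  l : Fin m
  /-- inverse of the form -/
  R : Matrix (Fin m) (Fin m) (ZMod p)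

variable {m : ℕ}

/-- the alternating form -/
def Num.Bm (D : Num p m) : Matrix (Fin m) (Fin m) (ZMod p) := low D.F - (low D.F)ᵀ

/-- the exponent of the correction -/
def Num.q (D : Num p m) (u : Fin m → ZMod p) : ZMod p := D.c ⬝ᵥ u + D.h * (u ⬝ᵥ low D.F *ᵥ u)

/-- the numerical conditions -/
def Num.Ok (D : Num p m) : Prop :=
  D.h + D.h = 1 ∧ D.c D.l = 0 ∧ (∀ i, low D.F i D.l = 0 ∧ low D.F D.l i = 0) ∧
    ∀ i j, (D.Bm * D.R) i j = if i = j ∧ i ≠ D.l then 1 else 0

/-- the relations -/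
structure Rel (D : Num p m) (a : Fin m → G) : Prop where
  prime : p.Prime
  ok : D.Ok
  pow : ∀ i, a i ^ p = 1
  ne : a D.l ≠ 1
  cen : ∀ i, a i * a D.l = a D.l * a i
  com : ∀ i j, j < i → a i * a j = pw (a D.l) (D.F i j) * a j * a i

/-- Baer coordinates -/
def bf (D : Num p m) (a : Fin m → G) (u : Fin m → ZMod p) : G := nf a u * pw (a D.l) (D.q u)

/-- conjugation by `s` is the linear map `M` -/
def Act (D : Num p m) (a : Fin m → G) (s : G) (M : Matrix (Fin m) (Fin m) (ZMod p)) : Prop :=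
  ∀ u, s⁻¹ * bf D a u * s = bf D a (u ᵥ* M)

/-- the numerical condition on a matrix: similitude with multiplier `μ` -/
def Num.Sim (D : Num p m) (M : Matrix (Fin m) (Fin m) (ZMod p)) (μ : ZMod p) : Prop :=
  (∀ j, M D.l j = if j = D.l then μ else 0) ∧ ∀ i j, (M * D.Bm * Mᵀ) i j = μ * D.Bm i j

variable [NeZero p] [Fact (1 < p)] {D : Num p m} {a : Fin m → G}

theorem Num.Ok.low_l (h : D.Ok) (u : Fin m → ZMod p) (b : ZMod p) :
    u ⬝ᵥ low D.F *ᵥ Pi.single D.l b = 0 ∧ Pi.single D.l b ⬝ᵥ low D.F *ᵥ u = 0 := by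
  constructor
  · have e : low D.F *ᵥ Pi.single D.l b = 0 := by
      funext i
      rw [mulVec, dotProduct_single, (h.2.2.1 i).1, zero_mul]; rfl
    rw [e, dotProduct_zero]
  · rw [single_dotProduct, mulVec, dotProduct]
    rw [Finset.sum_eq_zero fun i _ => by rw [(h.2.2.1 i).2, zero_mul], mul_zero]

theorem Bm_eq (D : Num p m) (u v : Fin m → ZMod p) :
    u ⬝ᵥ D.Bm *ᵥ v = u ⬝ᵥ low D.F *ᵥ v - v ⬝ᵥ low D.F *ᵥ u := by
  rw [Num.Bm, sub_mulVec, dotProduct_sub, mulVec_transpose, dotProduct_comm u (v ᵥ* _), ← dotProduct_mulVec]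

theorem Bm_self (D : Num p m) (u : Fin m → ZMod p) : u ⬝ᵥ D.Bm *ᵥ u = 0 := by rw [Bm_eq, sub_self]

theorem Num.Ok.Bm_l (h : D.Ok) (u : Fin m → ZMod p) (b : ZMod p) :
    u ⬝ᵥ D.Bm *ᵥ Pi.single D.l b = 0 ∧ Pi.single D.l b ⬝ᵥ D.Bm *ᵥ u = 0 := by
  rw [Bm_eq, Bm_eq, (h.low_l u b).1, (h.low_l u b).2, sub_self]
  exact ⟨rfl, rfl⟩

theorem Rel.nf_y (H : Rel D a) (u : Fin m → ZMod p) (c : ZMod p) : nf a u * pw (a D.l) c = pw (a D.l) c * nf a u :=
  ((nf_comm H.cen u).pow_right _).eq

theorem Rel.nf_add_l (H : Rel D a) (u : Fin m → ZMod p) (b : ZMod p) :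
    nf a (u + Pi.single D.l b) = nf a u * pw (a D.l) b := by
  have h := nf_mul (H.pow D.l) a D.F u (Pi.single D.l b) H.pow H.cen H.com
  rw [(H.ok.low_l u b).1, pw_zero, one_mul, nf_single] at h
  exact h.symm

theorem Rel.bf_add_l (H : Rel D a) (u : Fin m → ZMod p) (b : ZMod p) :
    bf D a (u + Pi.single D.l b) = bf D a u * pw (a D.l) b := by
  have e : D.q (u + Pi.single D.l b) = D.q u := by
    rw [Num.q, Num.q, dotProduct_add, dotProduct_single, H.ok.2.1, zero_mul, add_zero, mulVec_add, dotProduct_add,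
      (H.ok.low_l _ b).1, add_zero, add_dotProduct, (H.ok.low_l _ b).2, add_zero]
  rw [bf, bf, e, H.nf_add_l, mul_assoc, mul_assoc, ← pw_add (H.pow _), ← pw_add (H.pow _), add_comm]

/-- **the multiplication law** -/
theorem Rel.bf_mul (H : Rel D a) (u v : Fin m → ZMod p) :
    bf D a u * bf D a v = bf D a (u + v + Pi.single D.l (D.h * (u ⬝ᵥ D.Bm *ᵥ v))) := by
  have h := nf_mul (H.pow D.l) a D.F u v H.pow H.cen H.com
  rw [H.bf_add_l, bf, bf, bf, mul_assoc, ← mul_assoc (pw _ _), ← H.nf_y, ← mul_assoc, ← mul_assoc, h, ← H.nf_y,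
    mul_assoc, mul_assoc, mul_assoc, ← pw_add (H.pow _), ← pw_add (H.pow _), ← pw_add (H.pow _)]
  congr 2
  rw [Num.q, Num.q, Num.q, Bm_eq, dotProduct_add, mulVec_add, dotProduct_add, add_dotProduct, add_dotProduct]
  linear_combination (-(u ⬝ᵥ low D.F *ᵥ v)) * H.ok.1

theorem bf_zero : bf D a 0 = 1 := by
  have h := nf_single a D.l (0 : ZMod p)
  rw [Pi.single_zero, pw_zero] at h
  rw [bf, h, Num.q, dotProduct_zero, zero_dotProduct, mul_zero, add_zero, pw_zero, one_mul]

theorem Rel.bf_l (H : Rel D a) (b : ZMod p) : bf D a (Pi.single D.l b) = pw (a D.l) b := by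
  have h := H.bf_add_l 0 b
  rwa [zero_add, bf_zero, one_mul] at h

theorem bf_single (i : Fin m) : bf D a (Pi.single i 1) = a i * pw (a D.l) (D.c i) := by
  have e : low D.F i i = 0 := by simp [low]
  rw [bf, nf_single, pw_one, Num.q, dotProduct_single, single_dotProduct, mulVec, dotProduct_single, e]
  simp

theorem Rel.bf_neg (H : Rel D a) (u : Fin m → ZMod p) : bf D a (-u) = (bf D a u)⁻¹ := by
  refine eq_inv_of_mul_eq_one_right ?_
  rw [H.bf_mul, mulVec_neg, dotProduct_neg, Bm_self, neg_zero, mul_zero, Pi.single_zero, add_zero, add_neg_cancel,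
    bf_zero]

theorem Rel.bf_conj (H : Rel D a) (u w : Fin m → ZMod p) :
    (bf D a w)⁻¹ * bf D a u * bf D a w = bf D a (u + Pi.single D.l (u ⬝ᵥ D.Bm *ᵥ w)) := by
  rw [mul_assoc, inv_mul_eq_iff_eq_mul, H.bf_mul, H.bf_mul]
  congr 1
  have e : w ⬝ᵥ D.Bm *ᵥ u = -(u ⬝ᵥ D.Bm *ᵥ w) := by rw [Bm_eq, Bm_eq, neg_sub]
  rw [mulVec_add, dotProduct_add, (H.ok.Bm_l _ _).1, add_zero, e, add_comm u w, add_assoc w, add_assoc w, add_assoc u,
    ← Pi.single_add]
  congr 3
  linear_combination (u ⬝ᵥ D.Bm *ᵥ w) * H.ok.1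

theorem Rel.eq_zero (H : Rel D a) {u : Fin m → ZMod p} (h : bf D a u = 1) : u = 0 := by
  have h1 : ∀ w, u ⬝ᵥ D.Bm *ᵥ w = 0 := by
    intro w
    have h2 := H.bf_conj u w
    rw [H.bf_add_l, h, mul_one, inv_mul_cancel, one_mul] at h2
    exact pw_eq_one H.prime (H.pow _) H.ne h2.symm
  have h2 : ∀ j, j ≠ D.l → u j = 0 := by
    intro j hj
    have h3 := h1 (D.R *ᵥ Pi.single j 1)
    rw [mulVec_mulVec, dotProduct, Finset.sum_eq_single j] at h3
    · rwa [mulVec, dotProduct_single, H.ok.2.2.2, if_pos ⟨rfl, hj⟩, mul_one, mul_one] at h3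
    · intro i _ hi
      rw [mulVec, dotProduct_single, H.ok.2.2.2, if_neg (fun e => hi e.1), zero_mul, mul_zero]
    · intro e; exact absurd (Finset.mem_univ _) e
  have h3 : u = Pi.single D.l (u D.l) := by
    funext j
    by_cases hj : j = D.l
    · rw [hj, Pi.single_eq_same]
    · rw [Pi.single_eq_of_ne hj, h2 j hj]
  rw [h3, H.bf_l] at h
  rw [h3, pw_eq_one H.prime (H.pow _) H.ne h, Pi.single_zero]

theorem Rel.bf_inj (H : Rel D a) : Function.Injective (bf D a) := by
  intro u v h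
  have h1 : bf D a u * bf D a (-v) = 1 := by rw [H.bf_neg, h, mul_inv_cancel]
  rw [H.bf_mul] at h1
  have h2 := H.eq_zero h1
  have h3 : u = v - Pi.single D.l (D.h * (u ⬝ᵥ D.Bm *ᵥ -v)) := by
    rw [eq_sub_iff_add_eq, ← sub_eq_zero, ← h2]; abel
  have h4 : u ⬝ᵥ D.Bm *ᵥ -v = 0 := by
    rw [h3, sub_dotProduct, (H.ok.Bm_l _ _).2, mulVec_neg, dotProduct_neg, Bm_self, neg_zero, sub_zero]
  rw [h3, h4, mul_zero, Pi.single_zero, sub_zero]

/-! ### Linear action -/

theorem Act.mul {s t : G} {M N : Matrix (Fin m) (Fin m) (ZMod p)} (h1 : Act D a s M) (h2 : Act D a t N) :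
    Act D a (s * t) (M * N) := by
  intro u
  rw [← vecMul_vecMul, ← h2, ← h1]; group

theorem act_one : Act D a 1 1 := by intro u; simp

theorem Act.unique (H : Rel D a) {s : G} {M N : Matrix (Fin m) (Fin m) (ZMod p)} (h1 : Act D a s M)
    (h2 : Act D a s N) : M = N :=
  Matrix.ext_iff_vecMul.2 fun u => H.bf_inj ((h1 u).symm.trans (h2 u))

/-- **linearity** -/
theorem Rel.act_of (H : Rel D a) {s : G} {M : Matrix (Fin m) (Fin m) (ZMod p)} {μ : ZMod p} (hM : D.Sim M μ)
    (h : ∀ i, s⁻¹ * bf D a (Pi.single i 1) * s = bf D a (M i)) : Act D a s M := by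
  have e1 : ∀ b, Pi.single D.l b ᵥ* M = Pi.single D.l (b * μ) := by
    intro b
    funext j
    rw [vecMul, single_dotProduct, hM.1, Pi.single_apply]
    split_ifs <;> simp
  have e2 : ∀ u v, (u ᵥ* M) ⬝ᵥ D.Bm *ᵥ (v ᵥ* M) = μ * (u ⬝ᵥ D.Bm *ᵥ v) := by
    intro u v
    have e3 : M * D.Bm * Mᵀ = μ • D.Bm := Matrix.ext hM.2
    rw [← dotProduct_mulVec, ← mulVec_transpose M v, mulVec_mulVec, mulVec_mulVec, e3, smul_mulVec, dotProduct_smul,
      smul_eq_mul]
  let S : (Fin m → ZMod p) → Prop := fun u => s⁻¹ * bf D a u * s = bf D a (u ᵥ* M)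
  have s1 : ∀ u v, S u → S v → S (u + v + Pi.single D.l (D.h * (u ⬝ᵥ D.Bm *ᵥ v))) := by
    intro u v hu hv
    show _ = _
    rw [← H.bf_mul, add_vecMul, add_vecMul, e1, show D.h * (u ⬝ᵥ D.Bm *ᵥ v) * μ =
      D.h * ((u ᵥ* M) ⬝ᵥ D.Bm *ᵥ (v ᵥ* M)) by rw [e2]; ring, ← H.bf_mul, ← hu, ← hv]
    group
  have s0 : S 0 := by show _ = _; rw [zero_vecMul, bf_zero]; group
  have s2 : ∀ i (n : ℕ), S (Pi.single i (n : ZMod p)) := by
    intro i n
    induction n with
    | zero => rw [Nat.cast_zero, Pi.single_zero]; exact s0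
    | succ n ih =>
      have h1 : S (Pi.single i 1) := by
        show _ = _
        rw [h i, single_one_vecMul]; rfl
      have h2 := s1 _ _ ih h1
      have h3 : (Pi.single i (n : ZMod p) : Fin m → ZMod p) = (n : ZMod p) • (Pi.single i 1 : Fin m → ZMod p) := by
        rw [← Pi.single_smul, smul_eq_mul, mul_one]
      rwa [h3, smul_dotProduct, Bm_self, smul_zero, mul_zero, Pi.single_zero, add_zero, ← h3, ← Pi.single_add,
        ← Nat.cast_succ] at h2
  have s3 : ∀ i (c : ZMod p), S (Pi.single i c) := fun i c => by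
    have := s2 i c.val
    rwa [ZMod.natCast_zmod_val] at this
  have s4 : ∀ u v, S u → S v → S (u + v) := by
    intro u v hu hv
    have h1 := s1 _ _ (s1 u v hu hv) (s3 D.l (-(D.h * (u ⬝ᵥ D.Bm *ᵥ v))))
    rwa [(H.ok.Bm_l _ _).1, mul_zero, Pi.single_zero, add_zero, add_assoc, ← Pi.single_add, add_neg_cancel,
      Pi.single_zero, add_zero] at h1
  intro u
  rw [← Finset.univ_sum_single u]
  exact Finset.sum_induction _ S s4 s0 fun i _ => s3 i _

/-- inner automorphisms -/
theorem Rel.act_bf (H : Rel D a) {w : Fin m → ZMod p} {M : Matrix (Fin m) (Fin m) (ZMod p)}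
    (h : ∀ i j, M i j = (if i = j then 1 else 0) + if j = D.l then (D.Bm *ᵥ w) i else 0) : Act D a (bf D a w) M := by
  intro u
  rw [H.bf_conj]
  congr 1
  funext j
  have e : (u ᵥ* M) j = ∑ i, u i * M i j := rfl
  rw [e, Pi.add_apply, Pi.single_apply]
  simp only [h, mul_add, Finset.sum_add_distrib]
  congr 1
  · simp
  · split_ifs
    · rfl
    · simp

/-- **the representation** -/
theorem Rel.exists_rep [Finite G] (H : Rel D a) {r : ℕ} {gen : Fin r → G} {M : Fin r → Matrix (Fin m) (Fin m) (ZMod p)}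
    (h : ∀ i, Act D a (gen i) (M i)) {N : Subgroup G} (hN : N ≤ Subgroup.closure (Set.range gen)) :
    ∃ ρ : N →* Matrix (Fin m) (Fin m) (ZMod p), ∀ g : N, Act D a g (ρ g) := by
  have h1 : ∀ g ∈ Subgroup.closure (Set.range gen), ∃ X, Act D a g X := by
    intro g hg
    rw [← Subgroup.mem_toSubmonoid, Subgroup.closure_toSubmonoid_of_finite] at hg
    induction hg using Submonoid.closure_induction with
    | mem x hx => obtain ⟨i, rfl⟩ := hx; exact ⟨_, h i⟩
    | one => exact ⟨1, act_one⟩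
    | mul x y _ _ hx hy => obtain ⟨X, hX⟩ := hx; obtain ⟨Y, hY⟩ := hy; exact ⟨_, hX.mul hY⟩
  choose f hf using fun g : N => h1 g (hN g.2)
  exact ⟨⟨⟨f, (hf 1).unique H act_one⟩, fun g k => (hf (g * k)).unique H ((hf g).mul (hf k))⟩, hf⟩

theorem act_one_iff {s : G} : Act D a s 1 ↔ ∀ u, bf D a u * s = s * bf D a u := by
  refine forall_congr' fun u => ?_
  rw [vecMul_one, mul_assoc, inv_mul_eq_iff_eq_mul]

theorem Rel.act_y (H : Rel D a) {s : G} (hs : s ∈ Subgroup.zpowers (a D.l)) : Act D a s 1 := by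
  obtain ⟨k, rfl⟩ := Subgroup.mem_zpowers_iff.1 hs
  refine act_one_iff.2 fun u => (Commute.zpow_right ?_ k).eq
  exact (nf_comm H.cen u).mul_left ((Commute.refl _).pow_left _)

theorem Act.mem_normalizer [Finite G] (H : Rel D a) {s : G} {M : Matrix (Fin m) (Fin m) (ZMod p)} {μ : ZMod p}
    (h : Act D a s M) (hM : ∀ j, M D.l j = if j = D.l then μ else 0) :
    s ∈ Subgroup.normalizer ((Subgroup.zpowers (a D.l) : Subgroup G) : Set G) := by
  have e : Pi.single D.l 1 ᵥ* M = Pi.single D.l μ := by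
    funext j
    rw [vecMul, single_dotProduct, hM, Pi.single_apply, one_mul]
  have h1 := h (Pi.single D.l 1)
  rw [e, H.bf_l, H.bf_l, pw_one] at h1
  rw [← Subgroup.inv_mem_iff]
  refine Subgroup.mem_normalizer_fintype fun z hz => ?_
  obtain ⟨k, rfl⟩ := Subgroup.mem_zpowers_iff.1 hz
  rw [← conj_zpow, inv_inv, h1]
  exact Subgroup.zpow_mem _ (Subgroup.pow_mem _ (Subgroup.mem_zpowers _) _) _

/-! ### Lower bounds for orders -/

theorem chain_step [Finite G] (K : Subgroup G) (x : G) (O : Finset G) (hO : ∀ o ∈ O, ∃ t ∈ K, t⁻¹ * x * t = o) :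
    O.card * Nat.card ↥(K ⊓ Subgroup.centralizer {x}) ≤ Nat.card K := by
  choose t ht he using hO
  let f : O × ↥(K ⊓ Subgroup.centralizer {x}) → K := fun z => ⟨z.2 * t z.1 z.1.2, K.mul_mem z.2.2.1 (ht _ _)⟩
  have hf : Function.Injective f := by
    rintro ⟨o, s⟩ ⟨o', s'⟩ e
    have e1 : (s : G) * t o o.2 = s' * t o' o'.2 := congrArg Subtype.val e
    have key : ∀ (c : ↥(K ⊓ Subgroup.centralizer {x})) (z : G), ((c : G) * z)⁻¹ * x * (c * z) = z⁻¹ * x * z := by
      intro c z
      have h1 := Subgroup.mem_centralizer_singleton_iff.1 c.2.2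
      calc _ = z⁻¹ * (c : G)⁻¹ * (x * c) * z := by group
        _ = _ := by rw [← h1]; group
    have e2 : o = o' := Subtype.ext (by rw [← he o o.2, ← he o' o'.2, ← key s, e1, key])
    subst e2
    exact Prod.ext rfl (Subtype.ext (mul_right_cancel e1))
  have h1 := Nat.card_le_card_of_injective f hf
  rwa [Nat.card_prod, Nat.card_eq_fintype_card, Fintype.card_coe] at h1

end Cfsg.Agent.BX.Frame.Baer

private theorem eqs_bx9_baer0 : _root_.True := by
  try have : _root_.True := by simp only [_root_.Cfsg.Agent.BX.Frame.Baer.Num.Bm.eq_1]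
  try have : _root_.True := by simp only [_root_.Cfsg.Agent.BX.Frame.Baer.bf.eq_1]
  try have : _root_.True := by simp only [_root_.Cfsg.Agent.BX.Frame.Baer.Num.q.eq_1]
  try have : _root_.True := by simp only [_root_.Cfsg.Agent.BX.Frame.Baer.low.eq_1]
  try have : _root_.True := by simp only [_root_.Cfsg.Agent.BX.Frame.Baer.nf.eq_1]
  try have : _root_.True := by simp only [_root_.Cfsg.Agent.BX.Frame.Baer.pw.eq_1]
  try have : _root_.True := by simp only [_root_.Cfsg.Agent.BX.Frame.Baer.Act.eq_1]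
  try have : _root_.True := by simp only [_root_.Cfsg.Agent.BX.Frame.Baer.Num.Sim.eq_1]
  try have : _root_.True := by simp only [_root_.Cfsg.Agent.BX.Frame.Baer.Num.Ok.eq_1]
  exact _root_.True.intro
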