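import Cfsg.Agent.H264.U33.StO_mg_m3
import Cfsg.Agent.Lib.NodupNat
import Cfsg.Agent.FastGrp
set_option linter.all false
open scoped Cfsg.Agent.FastGrp

/-!
# The centralizer of `P = 3^(1+8)` is `⟨y⟩` (a copy of `H604/U33/CentP` with light imports)

* `mem_PP_of` : an element of `O` fixing the vector with the code `91` of `P / ⟨y⟩` lies in `P` (its orbit under the 128 products of
  the `w a` has 128 elements);
* `cent_PP` : `C(P) = ⟨y⟩`.
-/

set_option autoImplicit false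
set_option linter.unusedSectionVars false
set_option maxRecDepth 10000

namespace Cfsg.Agent.BX.Frame.CentP

open Subgroup Cfsg.Agent.H863.U33 Cfsg.Agent.H757.U33
open Cfsg.Agent.H966.U33.Orb (act vec mat mat_w vec_act act_lt)

/-! ### the orbit -/

/-- words in the `w a`, the first letter acts first -/
def actw : List (Fin 6) → ℕ → ℕ
  | [], c => c
  | a :: l, c => actw l (act a c)

/-- the 128 words -/
def Lw (k : ℕ) : List (Fin 6) :=
  (if k.testBit 0 then [0] else []) ++ (if k.testBit 1 then [1] else []) ++ (if k.testBit 2 then [2] else []) ++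
    (if k.testBit 3 then [3] else []) ++ (if k.testBit 4 then [4] else []) ++ (if k.testBit 5 then [5] else []) ++
    (if k.testBit 6 then [0, 1, 0, 1] else [])

def tab : List ℕ := [91, 172, 811, 812, 173, 92, 893, 892, 2247, 4434, 2484, 2457, 4407, 2220, 4644, 4671, 5174, 3716, 5814, 5796, 3698,
  5156, 4338, 4356, 644, 482, 3488, 3490, 484, 646, 3328, 3326, 300, 543, 4620, 4623, 546, 303, 4866, 4863, 748, 1477,
  909, 900, 1468, 739, 1629, 1638, 5911, 2995, 6471, 6435, 2959, 5875, 3519, 3555, 377, 701, 5435, 5431, 697, 373, 5755,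
  5759, 182, 101, 1622, 1621, 100, 181, 1540, 1541, 4404, 2217, 4887, 4914, 2244, 4431, 2727, 2700, 3694, 5152, 4014,
  4032, 5170, 3712, 5490, 5472, 448, 610, 6244, 6242, 608, 446, 6404, 6406, 519, 276, 2679, 2676, 273, 516, 2433, 2436,
  1469, 740, 1548, 1557, 749, 1478, 828, 819, 2957, 5873, 3357, 3393, 5909, 2993, 6309, 6273, 715, 391, 4297, 4301, 395,
  719, 3977, 3973]

theorem tab_eq : (List.range 128).map (fun k => actw (Lw k) 91) = tab := by decide +kernel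

theorem tab_nodup : tab.Nodup := by exact Cfsg.Agent.NodupNat.of_go (by decide +kernel)

theorem actw_inj {k k' : Fin 128} (h : actw (Lw k) 91 = actw (Lw k') 91) : k = k' := by
  have h1 : ((List.range 128).map (fun k => actw (Lw k) 91)).Nodup := by rw [tab_eq]; exact tab_nodup
  have h2 := (List.inj_on_of_nodup_map h1) (List.mem_range.2 k.2) (List.mem_range.2 k'.2) h
  exact Fin.ext h2

theorem vec_inj {c c' : ℕ} (hc : c < 6561) (hc' : c' < 6561) (h : vec c = vec c') : c = c' := by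
  have key : ∀ a b : ℕ, ((a % 3 : ℕ) : ZMod 3) = ((b % 3 : ℕ) : ZMod 3) → a % 3 = b % 3 := by
    intro a b hab
    have := (ZMod.natCast_eq_natCast_iff' _ _ 3).1 hab
    rwa [Nat.mod_mod, Nat.mod_mod] at this
  have h0 := key _ _ (congrFun h 0)
  have h1 := key _ _ (congrFun h 1)
  have h2 := key _ _ (congrFun h 2)
  have h3 := key _ _ (congrFun h 3)
  have h4 := key _ _ (congrFun h 4)
  have h5 := key _ _ (congrFun h 5)
  have h6 := key _ _ (congrFun h 6)
  have h7 := key _ _ (congrFun h 7)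
  have st : ∀ k, c / k % 3 = c' / k % 3 → c / (k * 3) = c' / (k * 3) → c / k = c' / k := fun k h1 h2 => by
    rw [← Nat.div_div_eq_div_mul, ← Nat.div_div_eq_div_mul] at h2
    exact (Nat.div_add_mod _ 3).symm.trans (by rw [h1, h2]; exact Nat.div_add_mod _ 3)
  have s1 := st 3 h1 (st 9 h2 (st 27 h3 (st 81 h4 (st 243 h5 (st 729 h6 (st 2187 h7
    ((Nat.div_eq_of_lt hc).trans (Nat.div_eq_of_lt hc').symm)))))))
  exact (Nat.div_add_mod c 3).symm.trans (by rw [h0, s1]; exact Nat.div_add_mod _ 3)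

theorem actw_lt (l : List (Fin 6)) : ∀ {c : ℕ}, c < 6561 → actw l c < 6561 := by
  induction l with
  | nil => exact fun h => h
  | cons a l ih => exact fun _ => ih (act_lt _ _)

section tb

variable {G : Type} [Group G] {y : G} {e : Fin 8 → G} {t : G} {w : Fin 6 → G} {k : Fin 2 → G} {n : G}

/-- the element of a word -/
def wd (w : Fin 6 → G) : List (Fin 6) → G
  | [] => 1
  | a :: l => w a * wd w l

theorem wd_mem (l : List (Fin 6)) : wd w l ∈ OO y e t w := by
  induction l with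
  | nil => exact one_mem _
  | cons a l ih => exact mul_mem (w_mem a) ih

theorem acts_wd (hAct : StAct) (h : TB y e t w k n) (l : List (Fin 6)) :
    ∀ {c : ℕ} (b : ZMod 3), ∃ b', (wd w l)⁻¹ * nf y e (vec c) b * wd w l = nf y e (vec (actw l c)) b' := by
  induction l with
  | nil => exact fun b => ⟨b, by simp [wd, actw]⟩
  | cons a l ih =>
    intro c b
    obtain ⟨b1, hb1⟩ := (hAct h).2.1 a (vec c) b
    have h1 : (fun j => ∑ i, vec c i * Mw a i j) = vec (act a c) := by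
      rw [vec_act (by omega : (a : ℕ) < 8), mat_w]
      rfl
    rw [h1] at hb1
    obtain ⟨b2, hb2⟩ := ih (c := act a c) b1
    refine ⟨b2, ?_⟩
    rw [wd, actw, ← hb2, ← hb1]
    group

/-- the elements of `O` fixing the vector `91` modulo `y` -/
def DD [Finite G] (h : TB y e t w k n) : Subgroup G where
  carrier := {o | o ∈ OO y e t w ∧ (nf y e (vec 91) 0)⁻¹ * (o⁻¹ * nf y e (vec 91) 0 * o) ∈ zpowers y}
  one_mem' := ⟨one_mem _, by simp⟩
  mul_mem' := by
    rintro a b ⟨ha, ha'⟩ ⟨hb, hb'⟩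
    refine ⟨mul_mem ha hb, ?_⟩
    set p := nf y e (vec 91) 0 with hp
    obtain ⟨i, hi⟩ := mem_zpowers_iff.1 ha'
    have hby : Commute b y := mem_centralizer_singleton_iff.1 (KK_le_cent (k := k) h (OO_le_KK hb))
    have h1 : a⁻¹ * p * a = p * y ^ i := by rw [hi, mul_inv_cancel_left]
    have h2 : p⁻¹ * ((a * b)⁻¹ * p * (a * b)) = p⁻¹ * (b⁻¹ * p * b) * y ^ i := by
      have h3 : (a * b)⁻¹ * p * (a * b) = b⁻¹ * (a⁻¹ * p * a) * b := by group
      rw [h3, h1]
      have h4 := (hby.zpow_right i).eq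
      calc p⁻¹ * (b⁻¹ * (p * y ^ i) * b) = p⁻¹ * (b⁻¹ * p) * (y ^ i * b) := by group
        _ = _ := by rw [← h4]; group
    rw [h2]
    exact mul_mem hb' (zpow_mem (mem_zpowers y) i)
  inv_mem' := by
    rintro a ⟨ha, ha'⟩
    refine ⟨inv_mem ha, ?_⟩
    set p := nf y e (vec 91) 0 with hp
    obtain ⟨i, hi⟩ := mem_zpowers_iff.1 ha'
    have hay : Commute a y := mem_centralizer_singleton_iff.1 (KK_le_cent (k := k) h (OO_le_KK ha))
    have h1 : p * a = a * p * y ^ i := by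
      have : a * (p * (p⁻¹ * (a⁻¹ * p * a))) = p * a := by group
      rw [← this, ← hi]
      group
    have h2 : p⁻¹ * (a⁻¹⁻¹ * p * a⁻¹) = y ^ (-i) := by
      have h3 := (hay.zpow_right i).eq
      have h4 : a * p = p * a * y ^ (-i) := by
        rw [h1]
        have : Commute (y ^ i) (y ^ (-i)) := (Commute.refl y).zpow_zpow _ _
        group
      calc p⁻¹ * (a⁻¹⁻¹ * p * a⁻¹) = p⁻¹ * (a * p) * a⁻¹ := by group
        _ = a * (y ^ (-i) * a⁻¹) := by rw [h4]; group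
        _ = a * (a⁻¹ * y ^ (-i)) := by rw [(hay.inv_left.zpow_right (-i)).eq]
        _ = _ := by group
    rw [h2]
    exact zpow_mem (mem_zpowers y) _

/-- for elements of `P` and for elements fixing `91`: in terms of normal forms -/
theorem mem_zpowers_of_nf {v : Fin 8 → ZMod 3} {b b' : ZMod 3} : (nf y e v b)⁻¹ * nf y e v b' ∈ zpowers y := by
  unfold nf
  rw [mul_inv_rev]
  have : ∀ q r s : G, r⁻¹ * q⁻¹ * (q * s) = r⁻¹ * s := by intro q r s; group
  rw [this]
  exact mul_mem (inv_mem (pow_mem (mem_zpowers y) _)) (pow_mem (mem_zpowers y) _)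

theorem PP_le_DD [Finite G] (hNF : StNF) (h : TB y e t w k n) : PP y e ≤ DD h := by
  intro p hp
  refine ⟨UU_le_OO (PP_le_UU hp), ?_⟩
  -- `P / ⟨y⟩` is commutative
  have hn := Cfsg.Agent.H649.U33.NB.of_TB h
  obtain ⟨v, b, rfl⟩ := ((hNF h).1 p).1 hp
  obtain ⟨c1, hc1⟩ := hn.nf_mul (vec 91) v
  obtain ⟨c2, hc2⟩ := hn.nf_mul v (vec 91)
  have h1 : (nf y e (vec 91) 0)⁻¹ * ((nf y e v b)⁻¹ * nf y e (vec 91) 0 * nf y e v b) =
      (nf y e v b * nf y e (vec 91) 0)⁻¹ * (nf y e (vec 91) 0 * nf y e v b) := by group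
  rw [h1, hc1, hc2, add_comm v]
  exact mem_zpowers_of_nf

/-- multiplication of a normal form by a power of `y` -/
theorem nf_pow_y (h : TB y e t w k n) (v : Fin 8 → ZMod 3) (b : ZMod 3) (m : ℕ) :
    nf y e v b * y ^ m = nf y e v (b + (m : ZMod 3)) := by
  rw [Cfsg.Agent.H649.U33.pow_eq_pw h.y3 m]
  have h1 := Cfsg.Agent.H649.U33.pw_add h.y3 b (m : ZMod 3)
  have h2 : ∀ b : ZMod 3, nf y e v b = (e 0 ^ (v 0).val * e 1 ^ (v 1).val * e 2 ^ (v 2).val * e 3 ^ (v 3).val *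
    e 4 ^ (v 4).val * e 5 ^ (v 5).val * e 6 ^ (v 6).val * e 7 ^ (v 7).val) * Cfsg.Agent.H649.U33.pw y b := fun _ => rfl
  rw [h2, h2, h1, mul_assoc]

theorem card_DD_le [Finite G] (hNF : StNF) (hAct : StAct) (hO : StO) (h : TB y e t w k n) : Nat.card (DD h) ≤ 3 ^ 9 := by
  have hn := Cfsg.Agent.H649.U33.NB.of_TB h
  let F : Fin 128 × DD h → OO y e t w := fun z => ⟨z.2 * wd w (Lw z.1), mul_mem z.2.2.1 (wd_mem _)⟩
  have hF : Function.Injective F := by
    rintro ⟨i, d⟩ ⟨j, d'⟩ hij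
    have h1 : (d : G) * wd w (Lw i) = d' * wd w (Lw j) := congrArg Subtype.val hij
    -- `wd (Lw i) = δ * wd (Lw j)`
    let δ : DD h := d⁻¹ * d'
    have h2 : wd w (Lw i) = (δ : G) * wd w (Lw j) := by
      show _ = ((d : G)⁻¹ * (d' : G)) * wd w (Lw j)
      rw [mul_assoc, ← h1, inv_mul_cancel_left]
    have hij' : i = j := by
      apply actw_inj
      apply vec_inj (actw_lt _ (by norm_num)) (actw_lt _ (by norm_num))
      obtain ⟨b1, hb1⟩ := acts_wd hAct h (Lw i) (c := 91) 0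
      obtain ⟨m, hm⟩ := mem_powers_iff_mem_zpowers.2 δ.2.2
      have hm' : (δ : G)⁻¹ * nf y e (vec 91) 0 * (δ : G) = nf y e (vec 91) 0 * y ^ m := by
        have h3 : y ^ m = (nf y e (vec 91) 0)⁻¹ * ((δ : G)⁻¹ * nf y e (vec 91) 0 * (δ : G)) := hm
        rw [h3, mul_inv_cancel_left]
      rw [nf_pow_y h] at hm'
      obtain ⟨b2, hb2⟩ := acts_wd hAct h (Lw j) (c := 91) (0 + (m : ZMod 3))
      have h4 : nf y e (vec (actw (Lw i) 91)) b1 = nf y e (vec (actw (Lw j) 91)) b2 := by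
        rw [← hb1, ← hb2, ← hm', h2]
        group
      exact ((hNF h).2.1 _ _ _ _ h4).1
    subst hij'
    have h3 : (d : G) = d' := mul_right_cancel h1
    exact Prod.ext rfl (Subtype.ext h3)
  have h1 := Nat.card_le_card_of_injective F hF
  have h2 : Nat.card (OO y e t w) = 3 ^ 9 * 2 ^ 7 := hO h
  rw [Nat.card_prod, h2, Nat.card_eq_fintype_card, Fintype.card_fin] at h1
  omega

/-- **an element of `O` fixing the vector `91` modulo `y` lies in `P`** -/
theorem mem_PP_of [Finite G] (hNF : StNF) (hAct : StAct) (hO : StO) (h : TB y e t w k n) {o : G} (ho : o ∈ OO y e t w)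
    (ho' : (nf y e (vec 91) 0)⁻¹ * (o⁻¹ * nf y e (vec 91) 0 * o) ∈ zpowers y) : o ∈ PP y e := by
  have h1 : PP y e = DD h := Subgroup.eq_of_le_of_card_ge (PP_le_DD hNF h) (by
    rw [(hNF h).2.2]
    exact card_DD_le hNF hAct hO h)
  rw [h1]
  exact ⟨ho, ho'⟩

/-- an element of `P` commuting with all `e i` is a power of `y` -/
theorem mem_zpowers_of_comm (hNF : StNF) (h : TB y e t w k n) {p : G} (hp : p ∈ PP y e) (hc : ∀ i, e i * p = p * e i) :
    p ∈ zpowers y := by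
  have hn := Cfsg.Agent.H649.U33.NB.of_TB h
  obtain ⟨v, b, rfl⟩ := ((hNF h).1 p).1 hp
  have key : ∀ i : Fin 8, fm i 0 * v 0 + fm i 1 * v 1 + fm i 2 * v 2 + fm i 3 * v 3 + fm i 4 * v 4 + fm i 5 * v 5 +
      fm i 6 * v 6 + fm i 7 * v 7 + 0 = 0 := by
    intro i
    have h1 := (hn.Q_nf i v b).1
    rw [hc i, mul_assoc, right_eq_mul] at h1
    exact Cfsg.Agent.H649.U33.pw_eq_one hn.y3 hn.y1 h1
  have h0 : v = 0 := by
    have k0 : 0 * v 0 + 1 * v 1 + 0 * v 2 + 0 * v 3 + 0 * v 4 + 0 * v 5 + 0 * v 6 + 0 * v 7 + 0 = 0 := key 0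
    have k1 : 2 * v 0 + 0 * v 1 + 0 * v 2 + 0 * v 3 + 0 * v 4 + 0 * v 5 + 0 * v 6 + 0 * v 7 + 0 = 0 := key 1
    have k2 : 0 * v 0 + 0 * v 1 + 0 * v 2 + 2 * v 3 + 0 * v 4 + 0 * v 5 + 0 * v 6 + 0 * v 7 + 0 = 0 := key 2
    have k3 : 0 * v 0 + 0 * v 1 + 1 * v 2 + 0 * v 3 + 0 * v 4 + 0 * v 5 + 0 * v 6 + 0 * v 7 + 0 = 0 := key 3
    have k4 : 0 * v 0 + 0 * v 1 + 0 * v 2 + 0 * v 3 + 0 * v 4 + 1 * v 5 + 0 * v 6 + 0 * v 7 + 0 = 0 := key 4
    have k5 : 0 * v 0 + 0 * v 1 + 0 * v 2 + 0 * v 3 + 2 * v 4 + 0 * v 5 + 0 * v 6 + 0 * v 7 + 0 = 0 := key 5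
    have k6 : 0 * v 0 + 0 * v 1 + 0 * v 2 + 0 * v 3 + 0 * v 4 + 0 * v 5 + 0 * v 6 + 2 * v 7 + 0 = 0 := key 6
    have k7 : 0 * v 0 + 0 * v 1 + 0 * v 2 + 0 * v 3 + 0 * v 4 + 0 * v 5 + 1 * v 6 + 0 * v 7 + 0 = 0 := key 7
    have h2 : (2 : ZMod 3) ≠ 0 := by decide
    simp only [zero_mul, one_mul, add_zero, zero_add, mul_eq_zero, h2, false_or] at k0 k1 k2 k3 k4 k5 k6 k7
    funext j
    fin_cases j
    · exact k1
    · exact k0
    · exact k3
    · exact k2
    · exact k5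
    · exact k4
    · exact k7
    · exact k6
  rw [h0, Cfsg.Agent.H649.U33.NB.nf_zero]
  exact pow_mem (mem_zpowers y) _

/-- **the centralizer of `P`** -/
theorem cent_PP [Finite G] (hNF : StNF) (hAct : StAct) (hO : StO) (h : TB y e t w k n)
    (hc : Nat.card (centralizer {y}) ≤ 65303470080) {g : G} (hg : ∀ p ∈ PP y e, p * g = g * p) : g ∈ zpowers y := by
  obtain ⟨hCK, -, hnorm, hker, -⟩ := Cfsg.Agent.H604.U33.StIm.stC' hNF hO h hc
  -- centralizing `P` is normalised by `O`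
  have hconj : ∀ o ∈ OO y e t w, ∀ c : G, (∀ p ∈ PP y e, p * c = c * p) → ∀ p ∈ PP y e, p * (o⁻¹ * c * o) = o⁻¹ * c * o * p := by
    intro o ho c hcc p hp
    have h1 : o * p * o⁻¹ ∈ PP y e := by
      have := (mem_N3.1 (KK_le_N3 h (OO_le_KK (inv_mem ho)))).1 p hp
      rwa [inv_inv] at this
    have h2 := hcc _ h1
    calc p * (o⁻¹ * c * o) = o⁻¹ * (o * p * o⁻¹ * c) * o := by group
      _ = o⁻¹ * (c * (o * p * o⁻¹)) * o := by rw [h2]
      _ = _ := by group
  have hfix : ∀ c : G, (∀ p ∈ PP y e, p * c = c * p) →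
      (nf y e (vec 91) 0)⁻¹ * (c⁻¹ * nf y e (vec 91) 0 * c) ∈ zpowers y := by
    intro c hcc
    have h1 := hcc _ (nf_mem (vec 91) 0)
    rw [mul_assoc c⁻¹, h1, inv_mul_cancel_left, inv_mul_cancel]
    exact one_mem _
  have hgy : g ∈ centralizer ({y} : Set G) := mem_centralizer_singleton_iff.2 (hg y y_mem).symm
  have hgO : g ∈ OO y e t w := by
    apply hker g hgy
    intro o ho
    apply PP_le_UU
    have hgy' : g⁻¹ * y * g = y := by rw [mul_assoc, (hg y y_mem), inv_mul_cancel_left]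
    apply mem_PP_of hNF hAct hO h
    · exact mul_mem (inv_mem ho) ((hnorm g (Or.inl hgy')).2.2 o ho)
    · apply hfix
      intro p hp
      have h1 : o⁻¹ * (g⁻¹ * o * g) = (o⁻¹ * g⁻¹ * o) * g := by group
      have h2 := hconj o ho g⁻¹ (fun p hp => by
        have : Commute p g := hg p hp
        exact this.inv_right.eq) p hp
      rw [h1, ← mul_assoc, h2, mul_assoc, hg p hp, ← mul_assoc]
  exact mem_zpowers_of_comm hNF h (mem_PP_of hNF hAct hO h hgO (hfix g hg))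
    (fun i => hg (e i) (e_mem i))

end tb

end Cfsg.Agent.BX.Frame.CentP
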