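import Cfsg.Agent.BX.Frame.Baer0
import Cfsg.Agent.H863.U33.ChkAll
set_option linter.all false

/-!
# The frame at the class 3B of the Baby Monster: data (a copy of the data of `BMx/Fr3` with light imports)
-/

set_option autoImplicit false
set_option maxRecDepth 100000

namespace Cfsg.Agent.BX.Frame.Fr3

open Cfsg.Agent.BX.Frame.Baer Cfsg.Agent.H863.U33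
open Cfsg.Agent.BabyM.Conc (Ltr)

/-- the eighteen matrices -/
def M3 : Fin 18 → Matrix (Fin 9) (Fin 9) (ZMod 3) := ![
  !![1, 0, 0, 0, 0, 0, 0, 0, 0; 0, 1, 0, 0, 0, 0, 0, 0, 2; 0, 0, 1, 0, 0, 0, 0, 0, 0; 0, 0, 0, 1, 0, 0, 0, 0, 0; 0, 0, 0, 0, 1, 0, 0, 0, 0; 0, 0, 0, 0, 0, 1, 0, 0, 0; 0, 0, 0, 0, 0, 0, 1, 0, 0; 0, 0, 0, 0, 0, 0, 0, 1, 0; 0, 0, 0, 0, 0, 0, 0, 0, 1],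
  !![1, 0, 0, 0, 0, 0, 0, 0, 1; 0, 1, 0, 0, 0, 0, 0, 0, 0; 0, 0, 1, 0, 0, 0, 0, 0, 0; 0, 0, 0, 1, 0, 0, 0, 0, 0; 0, 0, 0, 0, 1, 0, 0, 0, 0; 0, 0, 0, 0, 0, 1, 0, 0, 0; 0, 0, 0, 0, 0, 0, 1, 0, 0; 0, 0, 0, 0, 0, 0, 0, 1, 0; 0, 0, 0, 0, 0, 0, 0, 0, 1],
  !![1, 0, 0, 0, 0, 0, 0, 0, 0; 0, 1, 0, 0, 0, 0, 0, 0, 0; 0, 0, 1, 0, 0, 0, 0, 0, 0; 0, 0, 0, 1, 0, 0, 0, 0, 1; 0, 0, 0, 0, 1, 0, 0, 0, 0; 0, 0, 0, 0, 0, 1, 0, 0, 0; 0, 0, 0, 0, 0, 0, 1, 0, 0; 0, 0, 0, 0, 0, 0, 0, 1, 0; 0, 0, 0, 0, 0, 0, 0, 0, 1],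
  !![1, 0, 0, 0, 0, 0, 0, 0, 0; 0, 1, 0, 0, 0, 0, 0, 0, 0; 0, 0, 1, 0, 0, 0, 0, 0, 2; 0, 0, 0, 1, 0, 0, 0, 0, 0; 0, 0, 0, 0, 1, 0, 0, 0, 0; 0, 0, 0, 0, 0, 1, 0, 0, 0; 0, 0, 0, 0, 0, 0, 1, 0, 0; 0, 0, 0, 0, 0, 0, 0, 1, 0; 0, 0, 0, 0, 0, 0, 0, 0, 1],
  !![1, 0, 0, 0, 0, 0, 0, 0, 0; 0, 1, 0, 0, 0, 0, 0, 0, 0; 0, 0, 1, 0, 0, 0, 0, 0, 0; 0, 0, 0, 1, 0, 0, 0, 0, 0; 0, 0, 0, 0, 1, 0, 0, 0, 0; 0, 0, 0, 0, 0, 1, 0, 0, 2; 0, 0, 0, 0, 0, 0, 1, 0, 0; 0, 0, 0, 0, 0, 0, 0, 1, 0; 0, 0, 0, 0, 0, 0, 0, 0, 1],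
  !![1, 0, 0, 0, 0, 0, 0, 0, 0; 0, 1, 0, 0, 0, 0, 0, 0, 0; 0, 0, 1, 0, 0, 0, 0, 0, 0; 0, 0, 0, 1, 0, 0, 0, 0, 0; 0, 0, 0, 0, 1, 0, 0, 0, 1; 0, 0, 0, 0, 0, 1, 0, 0, 0; 0, 0, 0, 0, 0, 0, 1, 0, 0; 0, 0, 0, 0, 0, 0, 0, 1, 0; 0, 0, 0, 0, 0, 0, 0, 0, 1],
  !![1, 0, 0, 0, 0, 0, 0, 0, 0; 0, 1, 0, 0, 0, 0, 0, 0, 0; 0, 0, 1, 0, 0, 0, 0, 0, 0; 0, 0, 0, 1, 0, 0, 0, 0, 0; 0, 0, 0, 0, 1, 0, 0, 0, 0; 0, 0, 0, 0, 0, 1, 0, 0, 0; 0, 0, 0, 0, 0, 0, 1, 0, 0; 0, 0, 0, 0, 0, 0, 0, 1, 1; 0, 0, 0, 0, 0, 0, 0, 0, 1],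
  !![1, 0, 0, 0, 0, 0, 0, 0, 0; 0, 1, 0, 0, 0, 0, 0, 0, 0; 0, 0, 1, 0, 0, 0, 0, 0, 0; 0, 0, 0, 1, 0, 0, 0, 0, 0; 0, 0, 0, 0, 1, 0, 0, 0, 0; 0, 0, 0, 0, 0, 1, 0, 0, 0; 0, 0, 0, 0, 0, 0, 1, 0, 2; 0, 0, 0, 0, 0, 0, 0, 1, 0; 0, 0, 0, 0, 0, 0, 0, 0, 1],
  !![2, 0, 0, 0, 0, 0, 0, 0, 0; 0, 2, 0, 0, 0, 0, 0, 0, 0; 0, 0, 2, 0, 0, 0, 0, 0, 0; 0, 0, 0, 2, 0, 0, 0, 0, 0; 0, 0, 0, 0, 2, 0, 0, 0, 0; 0, 0, 0, 0, 0, 2, 0, 0, 0; 0, 0, 0, 0, 0, 0, 2, 0, 0; 0, 0, 0, 0, 0, 0, 0, 2, 0; 0, 0, 0, 0, 0, 0, 0, 0, 1],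
  !![1, 0, 0, 0, 0, 0, 0, 0, 0; 0, 1, 0, 0, 0, 0, 0, 0, 0; 0, 0, 1, 0, 0, 0, 0, 0, 0; 0, 0, 0, 1, 0, 0, 0, 0, 0; 0, 0, 0, 0, 2, 0, 0, 0, 0; 0, 0, 0, 0, 0, 2, 0, 0, 0; 0, 0, 0, 0, 0, 0, 2, 0, 0; 0, 0, 0, 0, 0, 0, 0, 2, 0; 0, 0, 0, 0, 0, 0, 0, 0, 1],
  !![0, 0, 0, 0, 1, 0, 0, 0, 0; 0, 0, 0, 0, 0, 1, 0, 0, 0; 0, 0, 0, 0, 0, 0, 1, 0, 0; 0, 0, 0, 0, 0, 0, 0, 1, 0; 1, 0, 0, 0, 0, 0, 0, 0, 0; 0, 1, 0, 0, 0, 0, 0, 0, 0; 0, 0, 1, 0, 0, 0, 0, 0, 0; 0, 0, 0, 1, 0, 0, 0, 0, 0; 0, 0, 0, 0, 0, 0, 0, 0, 1],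
  !![2, 0, 0, 0, 0, 0, 0, 0, 0; 0, 2, 0, 0, 0, 0, 0, 0, 0; 0, 0, 1, 0, 0, 0, 0, 0, 0; 0, 0, 0, 1, 0, 0, 0, 0, 0; 0, 0, 0, 0, 2, 0, 0, 0, 0; 0, 0, 0, 0, 0, 2, 0, 0, 0; 0, 0, 0, 0, 0, 0, 1, 0, 0; 0, 0, 0, 0, 0, 0, 0, 1, 0; 0, 0, 0, 0, 0, 0, 0, 0, 1],
  !![0, 0, 0, 2, 0, 0, 0, 0, 0; 0, 0, 2, 0, 0, 0, 0, 0, 0; 0, 2, 0, 0, 0, 0, 0, 0, 0; 2, 0, 0, 0, 0, 0, 0, 0, 0; 0, 0, 0, 0, 0, 0, 0, 1, 0; 0, 0, 0, 0, 0, 0, 1, 0, 0; 0, 0, 0, 0, 0, 1, 0, 0, 0; 0, 0, 0, 0, 1, 0, 0, 0, 0; 0, 0, 0, 0, 0, 0, 0, 0, 1],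
  !![0, 0, 1, 2, 0, 0, 0, 0, 0; 0, 0, 1, 1, 0, 0, 0, 0, 0; 2, 2, 0, 0, 0, 0, 0, 0, 0; 1, 2, 0, 0, 0, 0, 0, 0, 0; 0, 0, 0, 0, 0, 0, 1, 2, 0; 0, 0, 0, 0, 0, 0, 1, 1, 0; 0, 0, 0, 0, 2, 2, 0, 0, 0; 0, 0, 0, 0, 1, 2, 0, 0, 0; 0, 0, 0, 0, 0, 0, 0, 0, 1],
  !![0, 1, 0, 0, 0, 0, 0, 0, 0; 2, 0, 0, 0, 0, 0, 0, 0, 0; 0, 0, 0, 2, 0, 0, 0, 0, 0; 0, 0, 1, 0, 0, 0, 0, 0, 0; 0, 0, 0, 0, 0, 1, 0, 0, 0; 0, 0, 0, 0, 2, 0, 0, 0, 0; 0, 0, 0, 0, 0, 0, 0, 2, 0; 0, 0, 0, 0, 0, 0, 1, 0, 0; 0, 0, 0, 0, 0, 0, 0, 0, 1],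
  !![0, 0, 1, 0, 0, 0, 0, 0, 0; 0, 0, 1, 2, 0, 0, 0, 0, 0; 0, 2, 0, 0, 0, 0, 0, 0, 0; 2, 1, 0, 0, 0, 0, 0, 0, 0; 0, 0, 0, 0, 1, 1, 0, 0, 0; 0, 0, 0, 0, 2, 0, 0, 0, 0; 0, 0, 0, 0, 0, 0, 1, 1, 0; 0, 0, 0, 0, 0, 0, 0, 1, 0; 0, 0, 0, 0, 0, 0, 0, 0, 1],
  !![1, 0, 0, 0, 2, 1, 0, 0, 0; 1, 2, 0, 0, 1, 0, 0, 0, 0; 0, 0, 2, 1, 0, 0, 0, 1, 0; 0, 0, 0, 1, 0, 0, 1, 2, 0; 0, 1, 0, 0, 2, 2, 0, 0, 0; 1, 1, 0, 0, 0, 1, 0, 0, 0; 0, 0, 2, 2, 0, 0, 2, 0, 0; 0, 0, 2, 0, 0, 0, 1, 1, 0; 0, 0, 0, 0, 0, 0, 0, 0, 1],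
  !![1, 1, 1, 1, 0, 0, 0, 0, 0; 0, 1, 1, 0, 0, 0, 0, 0, 0; 1, 1, 2, 2, 0, 0, 0, 0, 0; 0, 2, 1, 0, 0, 0, 0, 0, 0; 0, 0, 0, 0, 1, 1, 2, 2, 0; 0, 0, 0, 0, 0, 1, 2, 0, 0; 0, 0, 0, 0, 2, 2, 2, 2, 0; 0, 0, 0, 0, 0, 1, 1, 0, 0; 0, 0, 0, 0, 0, 0, 0, 0, 2]]

/-- the numerical data -/
def D3 : Num 3 9 where
  F := !![0, 1, 0, 0, 0, 0, 0, 0, 0; 2, 0, 0, 0, 0, 0, 0, 0, 0; 0, 0, 0, 2, 0, 0, 0, 0, 0; 0, 0, 1, 0, 0, 0, 0, 0, 0; 0, 0, 0, 0, 0, 1, 0, 0, 0; 0, 0, 0, 0, 2, 0, 0, 0, 0; 0, 0, 0, 0, 0, 0, 0, 2, 0; 0, 0, 0, 0, 0, 0, 1, 0, 0; 0, 0, 0, 0, 0, 0, 0, 0, 0]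
  c := ![0, 0, 2, 0, 0, 0, 2, 0, 0]
  h := 2
  l := 8
  R := !![0, 2, 0, 0, 0, 0, 0, 0, 0; 1, 0, 0, 0, 0, 0, 0, 0, 0; 0, 0, 0, 1, 0, 0, 0, 0, 0; 0, 0, 2, 0, 0, 0, 0, 0, 0; 0, 0, 0, 0, 0, 2, 0, 0, 0; 0, 0, 0, 0, 1, 0, 0, 0, 0; 0, 0, 0, 0, 0, 0, 0, 1, 0; 0, 0, 0, 0, 0, 0, 2, 0, 0; 0, 0, 0, 0, 0, 0, 0, 0, 0]

/-- the words of the generators -/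
def wgen3 : Fin 18 → List Ltr :=
  ![we 0, we 1, we 2 ++ wy1 ++ wy1, we 3, we 4, we 5, we 6 ++ wy1 ++ wy1, we 7, wt, ww 0, ww 1, ww 2, ww 3, ww 4, ww 5,
    wk 0, wk 1, wn]

end Cfsg.Agent.BX.Frame.Fr3

private theorem eqs_bx9_fr3w : _root_.True := by
  try have : _root_.True := by simp only [_root_.Cfsg.Agent.BX.Frame.Fr3.M3.eq_1]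
  try have : _root_.True := by simp only [_root_.Cfsg.Agent.BX.Frame.Fr3.D3.eq_1]
  try have : _root_.True := by simp only [_root_.Cfsg.Agent.BX.Frame.Fr3.wgen3.eq_1]
  exact _root_.True.intro
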