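import Cfsg.Agent.BX.Frame.Baer
import Cfsg.Agent.BX.Frame.Fr3W
import Cfsg.Agent.BX.Frame.CentP
import Cfsg.Agent.BabyM.Instance
import Cfsg.Agent.Lib.Refl
import Cfsg.Agent.BMx.Fast
import Cfsg.Agent.FastGrp
set_option linter.all false
open scoped Cfsg.Agent.FastGrp

/-!
# The frame at the class 3B of the Baby Monster (helper9; after helper88)

From `H3 : |C(g wy1)| ≤ 65303470080` : `bf3 : BF D3 a3 gen3 M3`, `frame3 : Frame1 (g wy1) gen3 M3`, the orders of `N` and `C`.
-/

set_option autoImplicit false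
set_option maxRecDepth 100000
set_option linter.unusedSectionVars false

namespace Cfsg.Agent.BX.Frame.Fr3

open Subgroup Matrix Cfsg.Agent.BX.Frame.Baer Cfsg.Agent.H863.U33 Cfsg.Agent.BX.Cov
open Cfsg.Agent.H819.U33 (g g_append g_nil g_winv)
open Cfsg.Agent.BabyM.Conc (Ltr)

theorem stNF : StNF := Cfsg.Agent.H649.U33.stNF

theorem stAct : StAct := Cfsg.Agent.H649.U33.stAct

theorem stO : StO := Cfsg.Agent.H264.U33.O.stO stNF

theorem fact3 : Fact (1 < 3) := ⟨by norm_num⟩

attribute [local instance] fact3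

theorem D3_ok : D3.Ok := by
  unfold Num.Ok
  decide +kernel

section abs

variable {G : Type} [Group G] {y : G} {e : Fin 8 → G} {t : G} {w : Fin 6 → G} {k : Fin 2 → G} {n : G}

/-- the generators of the extraspecial group -/
def aa (y : G) (e : Fin 8 → G) : Fin 9 → G := Fin.snoc (α := fun _ => G) e y

theorem aa_l : aa y e D3.l = y := Fin.snoc_last (α := fun _ => G) _ _

theorem aa_cast (i : Fin 8) : aa y e i.castSucc = e i := Fin.snoc_castSucc (α := fun _ => G) _ _ _

theorem rel (h : TB y e t w k n) : Rel D3 (aa y e) where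
  prime := Nat.prime_three
  ok := D3_ok
  pow i := by
    refine Fin.lastCases ?_ (fun i => ?_) i
    · exact (congrArg (· ^ 3) (aa_l (y := y) (e := e))).trans h.y3
    · rw [aa_cast]; exact h.e3 i
  ne := by rw [aa_l]; exact h.y1
  cen i := by
    rw [aa_l]
    refine Fin.lastCases ?_ (fun i => ?_) i
    · rw [show aa y e (Fin.last 8) = y from aa_l]
    · rw [aa_cast]; exact h.ey i
  com i j hij := by
    have h1 : ∀ i j : Fin 8, D3.F i.castSucc j.castSucc = fm i j := by decide +kernel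
    have h2 : ∀ j : Fin 9, D3.F (Fin.last 8) j = 0 := by decide +kernel
    rw [aa_l]
    induction j using Fin.lastCases with
    | last => exact absurd hij (not_lt.2 (Fin.le_last i))
    | cast j =>
      induction i using Fin.lastCases with
      | last =>
        rw [h2, pw_zero, one_mul, aa_cast]
        exact (aa_l (y := y) (e := e)).symm ▸ (h.ey j).symm
      | cast i => rw [h1, aa_cast, aa_cast]; exact h.ee i j

theorem nf_eq (u : Fin 9 → ZMod 3) : Baer.nf (aa y e) u = H863.U33.nf y e (fun i => u i.castSucc) (u 8) := by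
  unfold Baer.nf H863.U33.nf
  simp only [List.ofFn_succ, List.ofFn_zero, List.prod_cons, List.prod_nil, mul_one, mul_assoc]
  rfl

theorem nf_y (h : TB y e t w k n) (v : Fin 8 → ZMod 3) (b c : ZMod 3) :
    H863.U33.nf y e v b * pw y c = H863.U33.nf y e v (b + c) := by
  have h1 := pw_add h.y3 b c
  unfold H863.U33.nf
  rw [mul_assoc]
  exact congrArg _ h1.symm

theorem bf_eq (h : TB y e t w k n) (u : Fin 9 → ZMod 3) :
    bf D3 (aa y e) u = H863.U33.nf y e (fun i => u i.castSucc) (u 8 + D3.q u) := by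
  rw [bf, nf_eq, aa_l, nf_y h]

/-- the check for an outer generator -/
def Chk (X : Matrix (Fin 9) (Fin 9) (ZMod 3)) (μ : ZMod 3) (A : Fin 8 → Fin 8 → ZMod 3) (C : Fin 8 → ZMod 3) : Prop :=
  D3.Sim X μ ∧ D3.q (X 8) = 0 ∧ ∀ j : Fin 8, (∀ i : Fin 8, X j.castSucc i.castSucc = A j i) ∧
    X j.castSucc 8 + D3.q (X j.castSucc) = C j + μ * D3.c j.castSucc

theorem act_of_chk (h : TB y e t w k n) {s : G} {X : Matrix (Fin 9) (Fin 9) (ZMod 3)} {μ : ZMod 3}
    {A : Fin 8 → Fin 8 → ZMod 3} {C : Fin 8 → ZMod 3} (hc : Chk X μ A C) (hy : s⁻¹ * y * s = pw y μ)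
    (he : ∀ j, s⁻¹ * e j * s = H863.U33.nf y e (A j) (C j)) : Act D3 (aa y e) s X := by
  refine (rel h).act_of hc.1 fun i => ?_
  induction i using Fin.lastCases with
  | last =>
    have e1 : X (Fin.last 8) = Pi.single D3.l μ := by
      funext j
      rw [Pi.single_apply]
      exact hc.1.1 j
    rw [e1, show Fin.last 8 = D3.l from rfl, (rel h).bf_l, (rel h).bf_l, aa_l, pw_one, hy]
  | cast j =>
    obtain ⟨h1, h2⟩ := hc.2.2 j
    rw [bf_single, aa_l, aa_cast, bf_eq h, h2, funext h1, ← nf_y h, ← he, ← pw_pw h.y3, ← hy, ← conj_pw]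
    group

/-- the generators -/
def gn (y : G) (e : Fin 8 → G) (t : G) (w : Fin 6 → G) (k : Fin 2 → G) (n : G) : Fin 18 → G :=
  ![e 0, e 1, e 2 * y * y, e 3, e 4, e 5, e 6 * y * y, e 7, t, w 0, w 1, w 2, w 3, w 4, w 5, k 0, k 1, n]

theorem inner_chk : ∀ (j : Fin 8) (a b : Fin 9), M3 (j.castLE (by norm_num)) a b =
    (if a = b then 1 else 0) + if b = D3.l then (D3.Bm *ᵥ Pi.single j.castSucc 1) a else 0 := by
  have h : ∀ (j : Fin 8) (b a : Fin 9), M3 (j.castLE (by norm_num)) a b =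
      (if a = b then (1 : ZMod 3) else 0) + if b = 8 then D3.Bm a j.castSucc else 0 := by decide +kernel
  intro j a b
  rw [h, mulVec, dotProduct_single, mul_one]
  rfl

theorem gn_inner (j : Fin 8) : gn y e t w k n (j.castLE (by norm_num)) = bf D3 (aa y e) (Pi.single j.castSucc 1) := by
  rw [bf_single, aa_l, aa_cast]
  have h0 : ∀ x : G, x = x * pw y (0 : ZMod 3) := fun x => by rw [pw_zero, mul_one]
  have h2 : ∀ x : G, x * y * y = x * pw y (2 : ZMod 3) := fun x => by
    rw [show pw y (2 : ZMod 3) = y ^ 2 from rfl, pow_two, mul_assoc]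
  fin_cases j
  exacts [h0 _, h0 _, h2 _, h0 _, h0 _, h0 _, h2 _, h0 _]

theorem chk_t : Chk (M3 8) 1 Mt Ct := by unfold Chk Num.Sim; (delta Cfsg.Agent.BX.Frame.Baer.Num.Bm Cfsg.Agent.BX.Frame.Baer.Num.q; set_option synthInstance.maxSize 100000 in exact Cfsg.Agent.Lib.Refl.of (by decide +kernel))

theorem chk_w : ∀ a : Fin 6, Chk (M3 ⟨9 + a, by omega⟩) 1 (Mw a) (Cw a) := by unfold Chk Num.Sim; (delta Cfsg.Agent.BX.Frame.Baer.Num.Bm Cfsg.Agent.BX.Frame.Baer.Num.q; set_option synthInstance.maxSize 100000 in exact Cfsg.Agent.Lib.Refl.of (by decide +kernel))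

theorem chk_k : ∀ c : Fin 2, Chk (M3 ⟨15 + c, by omega⟩) 1 (Mk c) (Ck c) := by unfold Chk Num.Sim; (delta Cfsg.Agent.BX.Frame.Baer.Num.Bm Cfsg.Agent.BX.Frame.Baer.Num.q; set_option synthInstance.maxSize 100000 in exact Cfsg.Agent.Lib.Refl.of (by decide +kernel))

theorem chk_n : Chk (M3 17) 2 Mn Cn := by unfold Chk Num.Sim; (delta Cfsg.Agent.BX.Frame.Baer.Num.Bm Cfsg.Agent.BX.Frame.Baer.Num.q; set_option synthInstance.maxSize 100000 in exact Cfsg.Agent.Lib.Refl.of (by decide +kernel))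

theorem act_gn (h : TB y e t w k n) (i : Fin 18) : Act D3 (aa y e) (gn y e t w k n i) (M3 i) := by
  have hc : ∀ s : G, s * y = y * s → s⁻¹ * y * s = pw y (1 : ZMod 3) := fun s hs => by
    rw [pw_one, mul_assoc, ← hs, inv_mul_cancel_left]
  have h1 : ∀ j : Fin 8, Act D3 (aa y e) (gn y e t w k n (j.castLE (by norm_num))) (M3 (j.castLE (by norm_num))) := by
    intro j
    rw [gn_inner]
    exact (rel h).act_bf (inner_chk j)
  have h2 := fun a => act_of_chk h (chk_w a) (hc _ (h.wy a)) (h.we a)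
  have h3 := fun c => act_of_chk h (chk_k c) (hc _ (h.ky c)) (h.ke c)
  have h4 : n⁻¹ * y * n = pw y (2 : ZMod 3) := by
    rw [h.ny, show pw y (2 : ZMod 3) = y ^ 2 from rfl, inv_eq_iff_mul_eq_one, ← pow_succ', h.y3]
  fin_cases i
  exacts [h1 0, h1 1, h1 2, h1 3, h1 4, h1 5, h1 6, h1 7, act_of_chk h chk_t (hc _ h.ty) h.te, h2 0, h2 1, h2 2, h2 3,
    h2 4, h2 5, h3 0, h3 1, act_of_chk h chk_n h4 h.ne]

theorem M3_last : ∀ i : Fin 18, ∀ j, M3 i D3.l j = if j = D3.l then M3 i 8 8 else 0 := by decide +kernel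

theorem y_mem (h : TB y e t w k n) : y ∈ closure (Set.range (gn y e t w k n)) := by
  have h0 : e 0 ∈ closure (Set.range (gn y e t w k n)) := subset_closure ⟨0, rfl⟩
  have h1 : e 1 ∈ closure (Set.range (gn y e t w k n)) := subset_closure ⟨1, rfl⟩
  have h2 := h.ee 0 1
  rw [show (fm 0 1).val = 1 from rfl, pow_one] at h2
  have h3 : y = e 0 * e 1 * (e 0)⁻¹ * (e 1)⁻¹ := by rw [h2]; group
  have h4 := mul_mem (mul_mem (mul_mem h0 h1) (inv_mem h0)) (inv_mem h1)
  rwa [← h3] at h4

theorem KK_le (h : TB y e t w k n) : KK y e t w k ≤ closure (Set.range (gn y e t w k n)) := by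
  have hy := y_mem h
  have hg : ∀ i, gn y e t w k n i ∈ closure (Set.range (gn y e t w k n)) := fun i => subset_closure ⟨i, rfl⟩
  have h2 : ∀ x : G, x * y * y ∈ closure (Set.range (gn y e t w k n)) → x ∈ closure (Set.range (gn y e t w k n)) :=
    fun x hx => by
      have := mul_mem (mul_mem hx (inv_mem hy)) (inv_mem hy)
      rwa [mul_inv_cancel_right, mul_inv_cancel_right] at this
  delta KK
  rw [closure_le]
  rintro x ((((rfl | ⟨j, rfl⟩) | rfl) | ⟨a, rfl⟩) | ⟨c, rfl⟩)
  · exact hy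
  · fin_cases j
    exacts [hg 0, hg 1, h2 _ (hg 2), hg 3, hg 4, hg 5, h2 _ (hg 6), hg 7]
  · exact hg 8
  · fin_cases a
    exacts [hg 9, hg 10, hg 11, hg 12, hg 13, hg 14]
  · fin_cases c
    exacts [hg 15, hg 16]

theorem norm_cases [Finite G] (h : TB y e t w k n) {s : G} (hs : s ∈ normalizer ((zpowers y : Subgroup G) : Set G)) :
    s⁻¹ * y * s = y ∨ s⁻¹ * y * s = y⁻¹ := by
  have h1 : s⁻¹ * y * s⁻¹⁻¹ ∈ zpowers y := (mem_normalizer_iff.1 (inv_mem hs) y).1 (mem_zpowers y)
  rw [inv_inv] at h1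
  obtain ⟨i, hi⟩ := mem_powers_iff_mem_zpowers.2 h1
  have hi' : y ^ (i % 3) = s⁻¹ * y * s := by rw [← pow_eq_pow_mod i h.y3]; exact hi
  have h3 : i % 3 = 0 ∨ i % 3 = 1 ∨ i % 3 = 2 := by omega
  rcases h3 with h3 | h3 | h3 <;> rw [h3] at hi'
  · exfalso
    apply h.y1
    calc y = s * (s⁻¹ * y * s) * s⁻¹ := by group
      _ = 1 := by rw [← hi']; simp
  · left; rw [← hi', pow_one]
  · right; rw [← hi', eq_inv_iff_mul_eq_one, ← pow_succ, h.y3]

theorem bf_abs [Finite G] (h : TB y e t w k n) (hc : Nat.card (centralizer ({y} : Set G)) ≤ 65303470080) :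
    BF D3 (aa y e) (gn y e t w k n) M3 := by
  have hC := (H604.U33.StIm.stC' stNF stO h hc).1
  have hN : Nm y ≤ closure (Set.range (gn y e t w k n)) := by
    intro s hs
    have key : ∀ x : G, x⁻¹ * y * x = y → x ∈ closure (Set.range (gn y e t w k n)) := fun x hx => by
      apply KK_le h
      rw [← hC, mem_centralizer_singleton_iff]
      calc x * y = x * (x⁻¹ * y * x) := by rw [hx]
        _ = y * x := by group
    rcases norm_cases h hs with h1 | h1
    · exact key s h1
    · have h2 := key (s * n) (by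
        calc _ = n⁻¹ * (s⁻¹ * y * s) * n := by group
          _ = (n⁻¹ * y * n)⁻¹ := by rw [h1]; group
          _ = y := by rw [h.ny, inv_inv])
      have h3 : n ∈ closure (Set.range (gn y e t w k n)) := subset_closure ⟨17, rfl⟩
      have h4 := mul_mem h2 (inv_mem h3)
      rwa [mul_inv_cancel_right] at h4
  have hm : ∀ i, gn y e t w k n i ∈ Nm y := fun i => by
    have := (act_gn h i).mem_normalizer (rel h) (M3_last i)
    rwa [aa_l] at this
  refine ⟨rel h, act_gn h, ?_, fun s h1 => ?_⟩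
  · rw [aa_l]
    exact le_antisymm hN ((closure_le _).2 (by rintro _ ⟨i, rfl⟩; exact hm i))
  · rw [act_one_iff] at h1
    rw [aa_l]
    refine CentP.cent_PP stNF stAct stO h hc fun p hp => ?_
    obtain ⟨v, b, rfl⟩ := ((stNF h).1 p).1 hp
    have h2 := h1 (Fin.snoc (α := fun _ => ZMod 3) v 0)
    have h3 := h1 (Pi.single D3.l 1)
    rw [(rel h).bf_l, aa_l, pw_one] at h3
    rw [bf_eq h] at h2
    simp only [Fin.snoc_castSucc] at h2
    generalize (Fin.snoc (α := fun _ => ZMod 3) v 0 : Fin 9 → ZMod 3) 8 + D3.q (Fin.snoc (α := fun _ => ZMod 3) v 0) = c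
      at h2
    have h4 : Commute (pw y (b - c)) (s : G) := (show Commute y (s : G) from h3).pow_left _
    have h5 := (show Commute (H863.U33.nf y e v c) (s : G) from h2).mul_left h4
    rw [nf_y h, add_sub_cancel] at h5
    exact h5

end abs

/-- the generators of the extraspecial group in the model -/
noncomputable def a3 : Fin 9 → H819.U33.G := aa (g wy1) eG

/-- the generators in the model -/
noncomputable def gen3 (i : Fin 18) : H819.U33.G := g (wgen3 i)

theorem a3_l : a3 D3.l = g wy1 := aa_l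

theorem a3_cast (i : Fin 8) : a3 i.castSucc = g (we i) := aa_cast i

theorem gen3_eq : gen3 = gn (g wy1) eG (g wt) wG kG (g wn) := by
  have h : ∀ v : List Ltr, g (v ++ wy1 ++ wy1) = g v * g wy1 * g wy1 := fun v => by rw [g_append, g_append]
  funext i
  fin_cases i
  exacts [rfl, rfl, h _, rfl, rfl, rfl, h _, rfl, rfl, rfl, rfl, rfl, rfl, rfl, rfl, rfl, rfl, rfl]

theorem finG : Finite H819.U33.G :=
  Nat.finite_of_card_ne_zero (by
    have h : Nat.card H819.U33.G = 4154781481226426191177580544000000 := BabyM.Instance.all.card_G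
    rw [h]; norm_num)

theorem order3 : orderOf (g wy1) = 3 := by
  have h3 : Fact (Nat.Prime 3) := ⟨Nat.prime_three⟩
  exact orderOf_eq_prime tb.y3 tb.y1

theorem rel3 : Rel D3 a3 := rel tb

theorem act3 (i : Fin 18) : Act D3 a3 (gen3 i) (M3 i) := by
  rw [gen3_eq]
  exact act_gn tb i

/-- the only heavy input -/
def H3 : Prop := Nat.card ↥(centralizer ({g wy1} : Set H819.U33.G)) ≤ 65303470080

/-- **The frame at 3B, in Baer coordinates.** -/
theorem bf3 (h : H3) : BF D3 a3 gen3 M3 := by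
  have := finG
  rw [gen3_eq]
  exact bf_abs tb h

/-- **The frame at 3B.** -/
theorem frame3 (h : H3) : Frame1 (g wy1) gen3 M3 := by
  have := finG
  have h1 := (bf3 h).frame1
  rwa [a3_l] at h1

theorem card_C (h : H3) : Nat.card ↥(centralizer ({g wy1} : Set H819.U33.G)) = 65303470080 :=
  have := finG
  (H604.U33.StIm.stC' stNF stO tb h).2.1

theorem card_N (h : H3) : Nat.card ↥(Nm (g wy1)) = 130606940160 := by
  have := finG
  obtain ⟨c, hc, h1⟩ := card_Nm Nat.prime_three order3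
  rw [card_C h] at h1
  have h2 : c = 1 ∨ c = 2 := (Nat.dvd_prime Nat.prime_two).1 hc
  rcases h2 with rfl | rfl
  · exfalso
    have h3 : centralizer ({g wy1} : Set H819.U33.G) = Nm (g wy1) :=
      eq_of_le_of_card_ge (cent_le_Nm _) (by rw [h1, card_C h])
    have h4 : g wn ∈ Nm (g wy1) := by
      have h5 := (bf3 h).gen_mem 17
      rwa [a3_l] at h5
    rw [← h3, mem_centralizer_singleton_iff] at h4
    have h5 := tb.ny
    rw [mul_assoc, ← h4, inv_mul_cancel_left, eq_inv_iff_mul_eq_one, ← pow_two] at h5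
    have h6 := orderOf_dvd_of_pow_eq_one h5
    rw [order3] at h6
    omega
  · exact h1

/-- powers of an element of order three -/
def wp (w : List Ltr) (c : ZMod 3) : List Ltr := if c = 0 then [] else if c = 1 then w else BabyM.TransInv.winv w

theorem g_wp {w : List Ltr} (h : g w ^ 3 = 1) (c : ZMod 3) : g (wp w c) = pw (g w) c := by
  fin_cases c
  · exact g_nil.trans (pw_zero _).symm
  · exact (pw_one _).symm
  · refine (g_winv _).trans ?_
    show _ = g w ^ 2
    rw [inv_eq_iff_mul_eq_one, ← pow_succ', h]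

/-- the word of an element in Baer coordinates -/
def bfw (u : Fin 9 → ZMod 3) : List Ltr :=
  wp (we 0) (u 0) ++ (wp (we 1) (u 1) ++ (wp (we 2) (u 2) ++ (wp (we 3) (u 3) ++ (wp (we 4) (u 4) ++ (wp (we 5) (u 5) ++
    (wp (we 6) (u 6) ++ (wp (we 7) (u 7) ++ wp wy1 (u 8 + D3.q u))))))))

theorem g_bfw (u : Fin 9 → ZMod 3) : g (bfw u) = bf D3 a3 u := by
  have he : ∀ i, g (we i) ^ 3 = 1 := tb.e3
  unfold bfw bf Baer.nf
  rw [g_append, g_append, g_append, g_append, g_append, g_append, g_append, g_append, g_wp (he 0), g_wp (he 1), g_wp (he 2),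
    g_wp (he 3), g_wp (he 4), g_wp (he 5), g_wp (he 6), g_wp (he 7), g_wp tb.y3, pw_add (x := g wy1) tb.y3]
  simp only [List.ofFn_succ, List.ofFn_zero, List.prod_cons, List.prod_nil, mul_one, mul_assoc]
  rfl

/-- **From a word to its matrix** (no hypothesis): nine kernel checks and the similitude check. -/
theorem act_of_eqF {w : List Ltr} {X : Matrix (Fin 9) (Fin 9) (ZMod 3)} {μ : ZMod 3} (hX : D3.Sim X μ)
    (h : ∀ i, BMx.Fast.eqF (bfw (Pi.single i 1) ++ w) (w ++ bfw (X i)) = true) : Act D3 a3 (g w) X := by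
  refine rel3.act_of hX fun i => ?_
  have h1 := BMx.Fast.eq_of_eqF (h i)
  rw [g_append, g_append, g_bfw, g_bfw] at h1
  rw [mul_assoc, inv_mul_eq_iff_eq_mul]
  exact h1

/-- the word in the letters of a word in the generators -/
def evw (w : List (Fin 18 × ℕ)) : List Ltr := (w.map fun q => (List.replicate q.2 (wgen3 q.1)).flatten).flatten

theorem g_evw (w : List (Fin 18 × ℕ)) : g (evw w) = ev gen3 w := by
  induction w with
  | nil => exact g_nil
  | cons q w ih =>
    have e : evw (q :: w) = (List.replicate q.2 (wgen3 q.1)).flatten ++ evw w := rfl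
    rw [e, g_append, ih, ev_cons, BMx.Fast.g_flatten, List.map_replicate, List.prod_replicate]
    rfl

end Cfsg.Agent.BX.Frame.Fr3

private theorem eqs_bx9_fr3 : _root_.True := by
  try have : _root_.True := by simp only [_root_.Cfsg.Agent.BX.Frame.Fr3.aa.eq_1]
  try have : _root_.True := by simp only [_root_.Cfsg.Agent.BX.Frame.Fr3.gn.eq_1]
  try have : _root_.True := by simp only [_root_.Cfsg.Agent.BX.Frame.Fr3.Chk.eq_1]
  try have : _root_.True := by simp only [_root_.Cfsg.Agent.BX.Frame.Fr3.a3.eq_1]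
  try have : _root_.True := by simp only [_root_.Cfsg.Agent.BX.Frame.Fr3.gen3.eq_1]
  try have : _root_.True := by simp only [_root_.Cfsg.Agent.BX.Frame.Fr3.H3.eq_1]
  try have : _root_.True := by simp only [_root_.Cfsg.Agent.BX.Frame.Fr3.wp.eq_1]
  try have : _root_.True := by simp only [_root_.Cfsg.Agent.BX.Frame.Fr3.bfw.eq_1]
  try have : _root_.True := by simp only [_root_.Cfsg.Agent.BX.Frame.Fr3.evw.eq_1]
  exact _root_.True.intro
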