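import Cfsg.Agent.BX.Frame.Fr3
import Cfsg.Agent.H844.Ore.BReal
import Cfsg.Agent.H480.Ore.FiBThree
import Cfsg.Agent.BM.KHAll
set_option linter.all false

/-!
# The hypothesis `H3` of the frame at 3B (helper9)
-/

set_option autoImplicit false

namespace Cfsg.Agent.BX.Frame.Fr3

open Subgroup Cfsg.Agent.H863.U33
open Cfsg.Agent.H819.U33 (g)

theorem h3 : H3 := by
  have := finG
  rcases H844.Ore.BThree.three_le ⟨BM.KHAll.iso.symm⟩ order3 with h1 | h1
  · exact h1
  · exact absurd w9_cube (H480.Ore.not_cube_of_fiB h1 _)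

end Cfsg.Agent.BX.Frame.Fr3
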