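import Cfsg.Agent.H844.Ore.BReal
import Cfsg.Agent.FastGrp
set_option linter.all false
open scoped Cfsg.Agent.FastGrp

/-!
# The centralizers of the elements of order 5 of the Baby Monster (helper9)

Copies of parts of `H513/PQ/J2`, `H705/OreB/FiveRad` and `BMx/Loc5` with fewer imports.
* `cent5_le` : `|C(y)| ≤ 6000000` if `y` has order 5, commutes with an involution and `5 ^ 5 ∣ |C(y)|`.
-/

set_option autoImplicit false
set_option maxRecDepth 100000
set_option linter.unusedSectionVars false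

namespace Cfsg.Agent.BX.Frame.Loc5

open Cfsg Cfsg.Agent Cfsg.Agent.MonsterX Cfsg.Agent.MonsterX.InstData Cfsg.Agent.MonsterX.MainPack Cfsg.Agent.MonsterU
open Cfsg.Agent.MonsterP Cfsg.Agent.MonsterN Cfsg.Agent.LThree Cfsg.Agent.LThreeMB
open Cfsg.Agent.MonsterX.MainBasic Cfsg.Agent.MonsterX.MainSimple Cfsg.Agent.MonsterX.Model
open Cfsg.Agent.LThreeB (XT mem_XT centXT centXT' conjXT)
open Subgroup (centralizer mem_centralizer_singleton_iff center card_dvd_of_le zpowers)
open Cfsg.Spor (Co1)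
open Cfsg.Agent.H979.BAdj Cfsg.Agent.H979.CovLift Cfsg.Agent.H979.OddB
open Cfsg.Agent.H630.NH Cfsg.Agent.H241.NH Cfsg.Agent.H630.Baby
open Cfsg.Agent.BpSpor.M5

universe u v

theorem card_two {y : Spor.J2} (hy : orderOf y = 2) : Nat.card (centralizer ({y} : Set Spor.J2)) = 1920 ∨
    Nat.card (centralizer ({y} : Set Spor.J2)) = 240 := by
  have : Finite Spor.J2 := Nat.finite_of_card_ne_zero (by
    rw [show Nat.card Spor.J2 = 604800 from Cfsg.Agent.S1619.result.2.2.2]; norm_num)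
  obtain ⟨t, u, Q, v, ρ, D⟩ := KFacts.J2.Facts.exists_dat_of (X := Spor.J2) ⟨MulEquiv.refl _⟩
  rcases D.F.cover y hy with h | h
  · left
    rw [← J2Type.Cent5.card_centralizer_of_isConj h]
    exact D.F.cardC
  · right
    rw [← J2Type.Cent5.card_centralizer_of_isConj h]
    exact J2Type.Order.card_centralizer_u D.F

theorem j2_card {X : Type u} [Group X] (h : Spor.IsoJ2 X) (v : X) (hv : v * v = 1) (hv1 : v ≠ 1) :
    Nat.card ↥(centralizer ({v} : Set X)) = 1920 ∨ Nat.card ↥(centralizer ({v} : Set X)) = 240 := by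
  obtain ⟨e⟩ := h
  rw [LThreeB.card_centralizer_congr e]
  refine card_two ?_
  rw [MulEquiv.orderOf_eq]
  have : Fact (Nat.Prime 2) := ⟨Nat.prime_two⟩
  exact orderOf_eq_prime (by rw [pow_two, hv]) hv1

section abs

variable {D : Type u} [Group D] [Finite D] {z x : D} {N : Subgroup D} {A : Type v} [Group A]
  {f : ↥(centralizer ({z} : Set D)) →* A}

theorem index_odd {p : ℕ} (h : Rad p z x N f) : ¬ 2 ∣ (centralizer ({z} : Set D)).index := by
  have hN := h.nN
  have h1 := H844.Ore.BAbs.card_mul_inf N (centralizer ({z} : Set D)) (fun g => by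
    obtain ⟨n, hn, c, hc, rfl⟩ := h.sup g
    exact ⟨n, hn, c, mem_centralizer_singleton_iff.2 hc, rfl⟩)
  rw [← (centralizer ({z} : Set D)).index_mul_card] at h1
  have h2 : (centralizer ({z} : Set D)).index * Nat.card ↥(N ⊓ centralizer ({z} : Set D) : Subgroup D) = Nat.card ↥N := by
    refine Nat.eq_of_mul_eq_mul_right (Nat.card_pos (α := ↥(centralizer ({z} : Set D)))) ?_
    rw [← h1]
    ring
  intro h3
  have h4 : 2 ∣ Nat.card ↥N := by
    rw [← h2]
    exact h3.mul_right _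
  exact (Nat.not_even_iff_odd.2 h.oN) (even_iff_two_dvd.2 h4)

/-- **The centralizer of an involution in the situation `Rad 5`.** -/
theorem rad_card [Finite A] [IsSimpleGroup A] (hns : ¬ Group.IsSolvable A) (hN : Rad 5 z x N f)
    (hA : ∀ v : A, v * v = 1 → v ≠ 1 → Nat.card ↥(centralizer ({v} : Set A)) = 1920 ∨
      Nat.card ↥(centralizer ({v} : Set A)) = 240) {t : D} (htt : t * t = 1) (ht1 : t ≠ 1)
    (htz : ∀ d : D, d * t * d⁻¹ ≠ z) :
    ∃ m : ℕ, Nat.card ↥(centralizer ({t} : Set D)) =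
      Nat.card ↥(N ⊓ centralizer ({t} : Set D) : Subgroup D) * (2 * m) ∧ m ≤ 1920 ∧ 15 ∣ m := by
  have hp : Fact (Nat.Prime 5) := ⟨Nat.prime_five⟩
  have hNn := hN.nN
  obtain ⟨d, hd⟩ := H844.Ore.BThree.exists_conj_mem (centralizer ({z} : Set D)) (index_odd hN) htt
  obtain ⟨τ, hτ⟩ : ∃ τ, d * t * d⁻¹ = τ := ⟨_, rfl⟩
  rw [hτ] at hd
  have hτz : τ * z = z * τ := mem_centralizer_singleton_iff.1 hd
  have hττ : τ * τ = 1 := by
    rw [← hτ]
    calc d * t * d⁻¹ * (d * t * d⁻¹) = d * (t * t) * d⁻¹ := by group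
      _ = 1 := by rw [htt]; group
  have hτ1 : τ ≠ 1 := by
    rw [← hτ]
    intro h1
    rw [conj_eq_one_iff] at h1
    exact ht1 h1
  have hτne : τ ≠ z := by
    rw [← hτ]
    exact htz d
  have hcc : Nat.card ↥(centralizer ({t} : Set D)) = Nat.card ↥(centralizer ({τ} : Set D)) :=
    MThirteen.card_cent_conj (isConj_iff.2 ⟨d, hτ⟩)
  have hcN : Nat.card ↥(N ⊓ centralizer ({t} : Set D) : Subgroup D) =
      Nat.card ↥(N ⊓ centralizer ({τ} : Set D) : Subgroup D) := by
    have h1 : (N ⊓ centralizer ({t} : Set D) : Subgroup D).map (MulAut.conj d).toMonoidHom =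
        N ⊓ centralizer ({τ} : Set D) := by
      ext g
      constructor
      · rintro ⟨a, ha', rfl⟩
        obtain ⟨ha, hat⟩ := Subgroup.mem_inf.1 ha'
        replace hat := mem_centralizer_singleton_iff.1 hat
        refine ⟨hNn.conj_mem a ha d, mem_centralizer_singleton_iff.2 ?_⟩
        show d * a * d⁻¹ * τ = τ * (d * a * d⁻¹)
        rw [← hτ]
        calc d * a * d⁻¹ * (d * t * d⁻¹) = d * (a * t) * d⁻¹ := by group
          _ = d * (t * a) * d⁻¹ := by rw [hat]
          _ = _ := by group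
      · intro hg'
        obtain ⟨hg, hgτ⟩ := Subgroup.mem_inf.1 hg'
        replace hgτ := mem_centralizer_singleton_iff.1 hgτ
        refine ⟨d⁻¹ * g * d, ⟨?_, mem_centralizer_singleton_iff.2 ?_⟩, ?_⟩
        · have h2 := hNn.conj_mem g hg d⁻¹
          rwa [inv_inv] at h2
        · have ht : t = d⁻¹ * τ * d := by rw [← hτ]; group
          rw [ht]
          calc d⁻¹ * g * d * (d⁻¹ * τ * d) = d⁻¹ * (g * τ) * d := by group
            _ = d⁻¹ * (τ * g) * d := by rw [hgτ]
            _ = _ := by group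
        · show d * (d⁻¹ * g * d) * d⁻¹ = g
          group
    rw [← h1, Subgroup.card_map_of_injective (MulAut.conj d).injective]
  rw [hcc, hcN]
  obtain ⟨m, hm1, hm2, hm3⟩ := H844.Ore.BAbs.card_cent_p (p := 5) (by norm_num) hns hN hττ hτz
  -- the image of `τ`
  obtain ⟨v, hv⟩ : ∃ v, f ⟨τ, mem_centralizer_singleton_iff.2 hτz⟩ = v := ⟨_, rfl⟩
  rw [hv] at hm2 hm3
  have hvv : v * v = 1 := by
    rw [← hv, ← map_mul]
    have h1 : (⟨τ, mem_centralizer_singleton_iff.2 hτz⟩ : ↥(centralizer ({z} : Set D))) *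
        ⟨τ, mem_centralizer_singleton_iff.2 hτz⟩ = 1 := Subtype.ext hττ
    rw [h1, map_one]
  have hv1 : v ≠ 1 := by
    intro h1
    rw [← hv] at h1
    obtain ⟨i, hi | hi⟩ := hN.ker _ h1
    · have h2 : τ = x ^ i := hi
      have h3 := hN.sq_one (by norm_num) (i := i) (by rw [← h2, hττ])
      rw [h3] at h2
      exact hτ1 h2
    · have h2 : τ = x ^ i * z := hi
      have h4 : x ^ i * x ^ i = 1 := by
        have h5 := hN.xzc i z
        calc x ^ i * x ^ i = x ^ i * x ^ i * (z * z) := by rw [hN.zz, mul_one]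
          _ = x ^ i * (x ^ i * z) * z := by group
          _ = x ^ i * (z * x ^ i) * z := by rw [h5]
          _ = (x ^ i * z) * (x ^ i * z) := by group
          _ = 1 := by rw [← h2, hττ]
      rw [hN.sq_one (by norm_num) h4, one_mul] at h2
      exact hτne h2
  refine ⟨m, hm1, ?_, ?_⟩
  · rcases hA v hvv hv1 with h5 | h5 <;> rw [h5] at hm2
    · exact Nat.le_of_dvd (by norm_num) hm2
    · exact (Nat.le_of_dvd (by norm_num) hm2).trans (by norm_num)
  · have h15 : 15 ∣ 2 * m := by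
      rcases hA v hvv hv1 with h5 | h5 <;> rw [h5] at hm3
      · exact (by norm_num : 15 ∣ 1920).trans hm3
      · exact (by norm_num : 15 ∣ 240).trans hm3
    exact Nat.Coprime.dvd_of_dvd_mul_left (by norm_num) h15

end abs

section abs

/-- `N` is a `5`-group in the situation `Rad 5` with `A` of order 604800 -/
theorem card_N_dvd {D : Type u} [Group D] [Finite D] {z x : D} {N : Subgroup D} {A : Type v} [Group A]
    {f : ↥(centralizer ({z} : Set D)) →* A} (h : Rad 5 z x N f) (hA : Nat.card A = 604800)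
    (hd : Nat.card D ∣ 5 ^ 7 * (604800 * 2)) : Nat.card ↥N ∣ 5 ^ 8 := by
  have hN := h.nN
  have h1 := H844.Ore.BAbs.card_mul_inf N (centralizer ({z} : Set D)) (fun g => by
    obtain ⟨n, hn, c, hc, rfl⟩ := h.sup g
    exact ⟨n, hn, c, mem_centralizer_singleton_iff.2 hc, rfl⟩)
  have h2 : Nat.card ↥(N ⊓ centralizer ({z} : Set D) : Subgroup D) = 5 := by
    have h3 : N ⊓ centralizer ({z} : Set D) = zpowers x := by
      apply le_antisymm
      · intro g hg
        obtain ⟨hg1, hg2⟩ := Subgroup.mem_inf.1 hg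
        exact h.cN g hg1 (mem_centralizer_singleton_iff.1 hg2)
      · rw [Subgroup.zpowers_le]
        exact Subgroup.mem_inf.2 ⟨h.xN, mem_centralizer_singleton_iff.2 (h.xc z).symm⟩
    rw [h3, Nat.card_zpowers, h.ox]
  have h4 : Nat.card f.ker * Nat.card A = Nat.card ↥(centralizer ({z} : Set D)) := by
    have h5 : Nat.card f.range = Nat.card A := by
      rw [MonoidHom.range_eq_top.2 h.surj, Subgroup.card_top]
    rw [← h5, ← Subgroup.index_ker]
    exact Subgroup.card_mul_index f.ker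
  rw [h2, ← h4, hA] at h1
  have h5 : Nat.card ↥N * Nat.card f.ker * 604800 ∣ 5 ^ 8 * 2 * 604800 := by
    have h6 : Nat.card ↥N * Nat.card f.ker * 604800 = Nat.card D * 5 := by rw [h1]; ring
    rw [h6]
    exact (mul_dvd_mul hd (dvd_refl 5)).trans (dvd_of_eq (by norm_num))
  have h6 : Nat.card ↥N * Nat.card f.ker ∣ 5 ^ 8 * 2 := Nat.dvd_of_mul_dvd_mul_right (by norm_num) h5
  have h7 : Nat.card ↥N ∣ 5 ^ 8 * 2 := (Dvd.intro _ rfl).trans h6
  exact Nat.Coprime.dvd_of_dvd_mul_right (Nat.coprime_two_right.2 h.oN) h7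

end abs

/-- **the data**: `|C(x) ∩ C(t)| = 2 n m`, `n` a power of 5 -/
def Dat5 {G : Type*} [Group G] (x t : G) : Prop :=
  ∃ n m : ℕ, Nat.card ↥(XT x t) = n * (2 * m) ∧ m ≤ 1920 ∧ 15 ∣ m ∧ n ∣ 5 ^ 8

/-- **Fixed rank 0.** -/
theorem zero_card5 {y : centralizer ({KDone.K.z} : Set Mon)} (hy : orderOf y = 5)
    (hfr : fr (KChart.pi MFive.Row.hc y) = 1) {t : Mon}
    (hto : orderOf t = 2) (htz : ∀ g : Mon, g * t * g⁻¹ ≠ KDone.K.z) (hty : t * (y : Mon) = y * t) :
    Dat5 (y : Mon) t := by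
  have hfin : Finite Mon := MThirteen.Row.finite
  have h := KChart.chart KDone.lft MFive.Row.hc
  have hp : Fact (Nat.Prime 5) := ⟨Nat.prime_five⟩
  have hy' : orderOf (KChart.pi MFive.Row.hc y) = 5 := MFive.orderOf_pi h Nat.prime_five (by decide) hy
  have hS : Spor.IsoJ2 (XX (KChart.pi MFive.Row.hc y)) := MFive.JTwo.isoJ2 hy' hfr
  have hcS : Nat.card (XX (KChart.pi MFive.Row.hc y)) = 604800 := by
    obtain ⟨e⟩ := hS
    exact (Nat.card_congr e.toEquiv).trans Cfsg.Agent.S1619.result.2.2.2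
  have hs : IsSimpleGroup (XX (KChart.pi MFive.Row.hc y)) := by
    obtain ⟨e⟩ := hS
    exact (MulEquiv.isSimpleGroup_congr e).2 Cfsg.Agent.S1620.result.1
  have hns : ¬ Group.IsSolvable (XX (KChart.pi MFive.Row.hc y)) :=
    H199.NSmMon.not_solvable hs hcS (by norm_num) (by norm_num)
  have hfS : Finite (XX (KChart.pi MFive.Row.hc y)) := Nat.finite_of_card_ne_zero (by rw [hcS]; norm_num)
  obtain ⟨N, hN⟩ := BpSpor.M5.exists_rad h (by norm_num) hy hfr
    (fun d hd hc => MFive.isolated h BpSpor.M5.trNe hy hfr d hd hc) hs (by rw [hcS]; decide)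
  set t' : ↥(centralizer ({(y : Mon)} : Set Mon)) := ⟨t, mem_centralizer_singleton_iff.2 hty⟩ with ht'
  have hXT : Nat.card ↥(XT (y : Mon) t) = Nat.card ↥(centralizer ({t'} : Set ↥(centralizer ({(y : Mon)} : Set Mon)))) :=
    (Nat.card_congr (centXT' t').toEquiv).symm
  obtain ⟨m, hm1, hm2, hm3⟩ := rad_card hns hN (fun v hv hv1 => j2_card hS v hv hv1) (t := t') (Subtype.ext (by
      show t * t = 1
      rw [← pow_two, ← hto, pow_orderOf_eq_one])) (by
      intro h1
      have h2 : t = 1 := congrArg Subtype.val h1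
      rw [h2, orderOf_one] at hto
      omega) (fun d h1 => htz (d : Mon) (congrArg Subtype.val h1))
  rw [← hXT] at hm1
  exact ⟨_, m, hm1, hm2, hm3, (card_dvd_of_le inf_le_left).trans (card_N_dvd hN hcS (H58.MonFiveB.card_dvd hy hfr))⟩

/-- **`x` of order 5 in the Monster commuting with `t` of class 2A and with a conjugate of `z`.** -/
theorem five_cases5 {x t : Mon} (hx : orderOf x = 5) (ht : orderOf t = 2) (htz : ∀ g : Mon, g * t * g⁻¹ ≠ KDone.K.z)
    (hxt : x * t = t * x) (hex : ∃ g : Mon, (g * KDone.K.z * g⁻¹) * x = x * (g * KDone.K.z * g⁻¹)) :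
    Nonempty (XX x ≃* Spor.HN) ∨ Dat5 x t := by
  have hfin : Finite Mon := MThirteen.Row.finite
  have hsim : IsSimpleGroup Mon := MThirteen.Row.simple
  have h := KChart.chart KDone.lft MFive.Row.hc
  rcases MFive.Row.cases_model CpAutBFive.Final.coFive (MFiveHN.Closed.hnEight h) hx hex with
    he | ⟨y₀, k, i, hy₀, hfr, hk⟩
  · exact Or.inl he
  · right
    have hki : orderOf ((y₀ : Mon) ^ i) = 5 := by
      rw [← hk, ← hx]
      exact MulEquiv.orderOf_eq (MulAut.conj k) x
    have hoy : orderOf (y₀ : Mon) = 5 := by rw [Subgroup.orderOf_coe, hy₀]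
    obtain ⟨j, hj⟩ : ∃ j : ℕ, ((y₀ : Mon) ^ i) ^ j = y₀ := by
      refine exists_pow_eq_self_of_coprime ?_
      rw [hoy]
      by_contra hcon
      have h5 : 5 ∣ i := by
        by_contra h6
        exact hcon ((Nat.coprime_comm).1 ((Nat.Prime.coprime_iff_not_dvd Nat.prime_five).2 h6))
      obtain ⟨r, rfl⟩ := h5
      have h7 : (y₀ : Mon) ^ 5 = 1 := by rw [← hoy, pow_orderOf_eq_one]
      rw [pow_mul, h7, one_pow, orderOf_one] at hki
      norm_num at hki
    have hcomm : ∀ g : Mon, g * (y₀ : Mon) ^ i = (y₀ : Mon) ^ i * g ↔ g * (y₀ : Mon) = y₀ * g := by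
      intro g
      constructor
      · intro h1
        have h2 := ((show Commute g ((y₀ : Mon) ^ i) from h1).pow_right j).eq
        rwa [hj] at h2
      · intro h1
        exact ((show Commute g (y₀ : Mon) from h1).pow_right i).eq
    have hxt' : (k * x * k⁻¹) * (k * t * k⁻¹) = (k * t * k⁻¹) * (k * x * k⁻¹) := LThreeB.conj_comm' hxt
    rw [hk] at hxt'
    obtain ⟨n, m, h1, h2⟩ := zero_card5 hy₀ hfr (t := k * t * k⁻¹)
      (by rw [← ht]; exact MulEquiv.orderOf_eq (MulAut.conj k) t)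
      (fun g hg => htz (g * k) (by rw [← hg]; group)) ((hcomm _).1 hxt'.symm)
    have hXT : XT ((y₀ : Mon) ^ i) (k * t * k⁻¹) = XT (y₀ : Mon) (k * t * k⁻¹) := by
      ext g
      rw [mem_XT, mem_XT, hcomm]
    refine ⟨n, m, ?_, h2⟩
    rw [← card_XT_conj k x t, hk, hXT]
    exact h1

/-- the order of the centralizer in the case of fixed rank 0 -/
theorem card_of_dat {c : ℕ} {x t : Mon} (hc : Nat.card ↥(XT x t) = c * 2) (hd : c ∣ 4154781481226426191177580544000000)
    (h : Dat5 x t) : c ≤ 6000000 := by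
  obtain ⟨n, m, h1, h2, h3, h4⟩ := h
  have hnm : c = n * m := by
    rw [h1] at hc
    have : n * (2 * m) = n * m * 2 := by ring
    rw [this] at hc
    omega
  subst hnm
  obtain ⟨j, hj, rfl⟩ := (Nat.dvd_prime_pow Nat.prime_five).1 h4
  have hj5 : j ≤ 5 := by
    by_contra hcon
    have h5 : 5 ^ 7 ∣ 5 ^ j * m := by
      have h6 : 5 ∣ m := (by norm_num : 5 ∣ 15).trans h3
      have := mul_dvd_mul (pow_dvd_pow 5 (show 6 ≤ j by omega)) h6
      rwa [← pow_succ] at this
    have := h5.trans hd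
    norm_num at this
  calc 5 ^ j * m ≤ 5 ^ 5 * 1920 := Nat.mul_le_mul (Nat.pow_le_pow_right (by norm_num) hj5) h2
    _ = 6000000 := by norm_num

/-- the three cases -/
theorem five_cases {L : Type} [Group L] [Finite L] (h : Spor.IsoB L) {y w : L} (hy : orderOf y = 5)
    (hw : orderOf w = 2) (hwy : w * y = y * w) :
    Nat.card ↥(centralizer ({y} : Set L)) * 2 ∣ 5 * 177408000 ∨
      Nat.card ↥(centralizer ({y} : Set L)) * 2 ∣ 5 * 3686400 ∨
      Nat.card ↥(centralizer ({y} : Set L)) ≤ 6000000 := by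
  have hfin : Finite Mon := MThirteen.Row.finite
  have hsim : IsSimpleGroup Mon := MThirteen.Row.simple
  obtain ⟨t, ht, h2, ⟨e⟩⟩ := exists_cover h
  obtain ⟨a, ha, ha'⟩ := exists_lift h2 Nat.prime_five (by norm_num) (x := e.symm y) (by rw [MulEquiv.orderOf_eq, hy])
  have ha5 : a ^ 5 = 1 := by rw [← ha, pow_orderOf_eq_one]
  have h4 : 4 ∣ Nat.card ↥(centralizer ({(a : Mon)} : Set Mon)) :=
    four_dvd h2 e (by decide : Odd 5) ha5 hw (by rw [ha', e.apply_symm_apply, hwy])
  have haM : orderOf (a : Mon) = 5 := by rw [Subgroup.orderOf_coe, ha]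
  have hex := (CpAutBFive.EvenRow.cases haM).resolve_right fun h => h h4
  have hc : Nat.card ↥(XT (a : Mon) t) = Nat.card ↥(centralizer ({y} : Set L)) * 2 := by
    have h3 := card_cent h2 e Nat.prime_five (by norm_num) ha
    rw [ha', e.apply_symm_apply] at h3
    rw [← h3]
    exact Nat.card_congr (centXT a).toEquiv
  have hto := MThirteen.Row.ta_order ht
  have hat : (a : Mon) * t = t * a := mem_centralizer_singleton_iff.1 a.2
  rcases five_cases5 haM hto (MThirteen.Row.ta_ne ht) hat hex with ⟨⟨f⟩⟩ | hD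
  · obtain ⟨τ, hτ, hd⟩ := card_XT_dvd Nat.prime_five (by norm_num) haM hto hat
    rw [LThreeB.card_centralizer_congr f, hc] at hd
    rcases Cfsg.Agent.SigZeroHN.card_centralizer_cases (u := f τ)
      (by rw [MulEquiv.orderOf_eq]; exact hτ) with ⟨-, h5⟩ | ⟨-, h5⟩
    · rw [h5] at hd
      exact Or.inl hd
    · rw [h5] at hd
      exact Or.inr (Or.inl hd)
  · refine Or.inr (Or.inr (card_of_dat hc ?_ hD))
    rw [← NotCT.Orders.b h]
    exact Subgroup.card_subgroup_dvd_card _

/-- **The class 5B.** -/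
theorem cent5_le {L : Type} [Group L] [Finite L] (h : Spor.IsoB L) {y w : L} (hy : orderOf y = 5)
    (hw : orderOf w = 2) (hwy : w * y = y * w) (hd : 5 ^ 5 ∣ Nat.card (centralizer ({y} : Set L))) :
    Nat.card (centralizer ({y} : Set L)) ≤ 6000000 := by
  rcases five_cases h hy hw hwy with h1 | h1 | h1
  · have h2 := (hd.trans (dvd_mul_right _ 2)).trans h1
    norm_num at h2
  · have h2 := (hd.trans (dvd_mul_right _ 2)).trans h1
    norm_num at h2
  · exact h1

end Cfsg.Agent.BX.Frame.Loc5
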