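import Cfsg.Agent.BX.Frame.Fr5
import Cfsg.Agent.BX.Frame.Loc5
import Cfsg.Agent.BM.KHAll
set_option linter.all false

/-!
# The hypothesis `H5` of the frame at 5B (helper9)
-/

set_option autoImplicit false
set_option maxRecDepth 100000

namespace Cfsg.Agent.BX.Frame.Fr5

open Subgroup Cfsg.Agent.BMx.Fast
open Cfsg.Agent.H819.U33 (g g_append)

theorem c_z2 : ordF [.z] 2 = true := by decide +kernel

theorem c_zv : eqF ([.z] ++ wv) (wv ++ [.z]) = true := by decide +kernel

theorem h5 : H5 := by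
  have := finG
  have h1 := eq_of_eqF c_zv
  rw [g_append, g_append] at h1
  exact Loc5.cent5_le ⟨BM.KHAll.iso.symm⟩ order5 (orderOf_of_ordF c_z2) h1 cent_dvd

end Cfsg.Agent.BX.Frame.Fr5
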